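/-
# Symmetries of the orbit below a character of degree prime to `p`
-/
import Mathlib
import Cfsg.Agent.H723.QD.BrO
import Cfsg.Agent.H672.Lin

set_option linter.unusedSectionVars false
set_option linter.unusedVariables false

namespace Cfsg.Agent.H723.QD

open Cfsg
open scoped ComplexConjugate
open Cfsg.Agent.Characters.Core
open Cfsg.Agent.H593.GlaubermanP (Inv actIrr)

section

variable {K : Type*} [Group K] [Fintype K] {D : Type*} [Group D] [Fintype D]
variable {p : ℕ} [hp : Fact p.Prime] {P : Subgroup K} {ι : D →* K} {M : Ideal AlgInt}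

/-- Multiplication of a character by a linear character. -/
noncomputable def linMul (l : D →* ℂˣ) (β : IrrCharacter D) : IrrCharacter D :=
  ⟨fun d => (l d : ℂ) * (β : D → ℂ) d, Cfsg.Agent.H672.isIrr_mul_lf l β.2⟩

theorem linMul_apply (l : D →* ℂˣ) (β : IrrCharacter D) (d : D) :
    (linMul l β : D → ℂ) d = (l d : ℂ) * (β : D → ℂ) d := rfl

theorem linMul_injective (l : D →* ℂˣ) : Function.Injective (linMul l) := by
  intro β β' h
  refine Subtype.ext (funext fun d => ?_)
  have := congrFun (congrArg Subtype.val h) d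
  rw [linMul_apply, linMul_apply] at this
  exact mul_left_cancel₀ (Units.ne_zero _) this

theorem good_of_equiv {β β' : IrrCharacter D} {θ : K → ℂ}
    (hc : Nat.card (NOrb P ι β) = Nat.card (NOrb P ι β'))
    (hm : mlt ι θ β' = mlt ι θ β) (hd : charDegree (β' : D → ℂ) = charDegree (β : D → ℂ))
    (hg : Good p P ι θ β) : Good p P ι θ β' := by
  unfold Good at hg ⊢
  rwa [← hc, hm, hd]

theorem BSet.good_lin (h : BSet p P ι) {θ : K → ℂ} (l : K →* ℂˣ)
    (hl : ∀ x, (l x : ℂ) * θ x = θ x) {β : IrrCharacter D} (hg : Good p P ι θ β) :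
    Good p P ι θ (linMul (l.comp ι) β) := by
  have key : ∀ (l : K →* ℂˣ) (β γ : IrrCharacter D), NRel P ι β γ →
      NRel P ι (linMul (l.comp ι) β) (linMul (l.comp ι) γ) := by
    rintro l β γ ⟨n, hn, h1⟩
    refine ⟨n, hn, fun d d' hd => ?_⟩
    rw [linMul_apply, linMul_apply, h1 d d' hd]
    congr 2
    rw [MonoidHom.comp_apply, MonoidHom.comp_apply, hd, map_mul, map_mul, map_inv]
    rw [mul_comm (l n), mul_inv_cancel_right]
  have hinv : ∀ (β : IrrCharacter D), linMul (l⁻¹.comp ι) (linMul (l.comp ι) β) = β := by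
    intro β
    refine Subtype.ext (funext fun d => ?_)
    rw [linMul_apply, linMul_apply, ← mul_assoc, ← Units.val_mul]
    have : (l⁻¹.comp ι) d * (l.comp ι) d = 1 := by
      rw [MonoidHom.comp_apply, MonoidHom.comp_apply, MonoidHom.inv_apply, inv_mul_cancel]
    rw [this, Units.val_one, one_mul]
  have hinv' : ∀ (β : IrrCharacter D), linMul (l.comp ι) (linMul (l⁻¹.comp ι) β) = β := by
    intro β
    refine Subtype.ext (funext fun d => ?_)
    rw [linMul_apply, linMul_apply, ← mul_assoc, ← Units.val_mul]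
    have : (l.comp ι) d * (l⁻¹.comp ι) d = 1 := by
      rw [MonoidHom.comp_apply, MonoidHom.comp_apply, MonoidHom.inv_apply, mul_inv_cancel]
    rw [this, Units.val_one, one_mul]
  refine good_of_equiv ?_ ?_ ?_ hg
  · refine Nat.card_congr ⟨fun γ => ⟨linMul (l.comp ι) γ, key l _ _ γ.2⟩,
      fun γ => ⟨linMul (l⁻¹.comp ι) γ, ?_⟩, fun γ => Subtype.ext (hinv _),
      fun γ => Subtype.ext (hinv' _)⟩
    have := key l⁻¹ _ _ γ.2
    rwa [hinv] at this
  · unfold mlt
    congr 2
    rw [classInner_def, classInner_def]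
    congr 1
    refine Finset.sum_congr rfl fun d _ => ?_
    rw [linMul_apply, map_mul, Function.comp_apply]
    have h1 := hl (ι d)
    have h2 : ((l.comp ι) d : ℂ) * conj ((l.comp ι) d : ℂ) = 1 :=
      Cfsg.Agent.H672.lf_mul_conj (l.comp ι) d
    rw [MonoidHom.comp_apply] at h2 ⊢
    calc θ (ι d) * (conj (l (ι d) : ℂ) * conj ((β : D → ℂ) d)) =
        ((l (ι d) : ℂ) * θ (ι d)) * (conj (l (ι d) : ℂ) * conj ((β : D → ℂ) d)) := by rw [h1]
      _ = (((l (ι d) : ℂ)) * conj (l (ι d) : ℂ)) * (θ (ι d) * conj ((β : D → ℂ) d)) := by ring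
      _ = θ (ι d) * conj ((β : D → ℂ) d) := by rw [h2, one_mul]
  · exact Cfsg.Agent.H672.charDegree_mul_lf (l.comp ι) (β : D → ℂ)

theorem BSet.good_aut (h : BSet p P ι) {θ : K → ℂ} (a : K ≃* K) (e : D ≃* D)
    (hae : ∀ d, ι (e d) = a (ι d)) (haP : ∀ u ∈ P, a u ∈ P) (hθ : ∀ x, θ (a x) = θ x)
    {β : IrrCharacter D} (hg : Good p P ι θ β) : Good p P ι θ (cjIrr e β) := by
  classical
  have haP' : P.map a.toMonoidHom = P := by
    refine Subgroup.eq_of_le_of_card_ge ?_ ?_
    · rintro _ ⟨u, hu, rfl⟩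
      exact haP u hu
    · rw [Subgroup.card_map_of_injective a.injective]
  have hsymm : ∀ u ∈ P, a.symm u ∈ P := by
    intro u hu
    rw [← haP'] at hu
    obtain ⟨v, hv, rfl⟩ := hu
    have : a.symm (a.toMonoidHom v) = v := a.symm_apply_apply v
    rwa [this]
  have hN : ∀ n ∈ Subgroup.normalizer (P : Set K), a.symm n ∈ Subgroup.normalizer (P : Set K) := by
    intro n hn
    refine Subgroup.mem_normalizer_fintype fun u hu => ?_
    have h1 := (Subgroup.mem_normalizer_iff.1 hn (a u)).1 (haP u hu)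
    have h2 := hsymm _ h1
    rw [map_mul, map_mul, map_inv, a.symm_apply_apply] at h2
    exact h2
  have hN' : ∀ n ∈ Subgroup.normalizer (P : Set K), a n ∈ Subgroup.normalizer (P : Set K) := by
    intro n hn
    refine Subgroup.mem_normalizer_fintype fun u hu => ?_
    have h1 := (Subgroup.mem_normalizer_iff.1 hn (a.symm u)).1 (hsymm u hu)
    have h2 := haP _ h1
    rw [map_mul, map_mul, map_inv, a.apply_symm_apply] at h2
    exact h2
  have key : ∀ (a : K ≃* K) (e : D ≃* D) (hae : ∀ d, ι (e d) = a (ι d))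
      (hN : ∀ n ∈ Subgroup.normalizer (P : Set K), a.symm n ∈ Subgroup.normalizer (P : Set K))
      (β γ : IrrCharacter D), NRel P ι β γ → NRel P ι (cjIrr e β) (cjIrr e γ) := by
    rintro a e hae hN β γ ⟨n, hn, h1⟩
    refine ⟨a.symm n, hN n hn, fun d d' hd => ?_⟩
    rw [cjIrr_apply, cjIrr_apply]
    refine h1 _ _ ?_
    rw [hae, hd, hae, map_mul, map_mul, map_inv, a.apply_symm_apply]
  have hes : ∀ d, ι (e.symm d) = a.symm (ι d) := by
    intro d
    rw [MulEquiv.eq_symm_apply, ← hae, e.apply_symm_apply]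
  have hinv : ∀ β : IrrCharacter D, cjIrr e.symm (cjIrr e β) = β := fun β =>
    Subtype.ext (funext fun d => by rw [cjIrr_apply, cjIrr_apply, e.apply_symm_apply])
  have hinv' : ∀ β : IrrCharacter D, cjIrr e (cjIrr e.symm β) = β := fun β =>
    Subtype.ext (funext fun d => by rw [cjIrr_apply, cjIrr_apply, e.symm_apply_apply])
  refine good_of_equiv ?_ ?_ ?_ hg
  · refine Nat.card_congr ⟨fun γ => ⟨cjIrr e γ, key a e hae hN _ _ γ.2⟩,
      fun γ => ⟨cjIrr e.symm γ, ?_⟩, fun γ => Subtype.ext (hinv _),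
      fun γ => Subtype.ext (hinv' _)⟩
    have := key a.symm e.symm hes hN' _ _ γ.2
    rwa [hinv] at this
  · have h2 : (θ ∘ ι) ∘ e = θ ∘ ι := by
      funext d
      rw [Function.comp_apply, Function.comp_apply, Function.comp_apply, hae, hθ]
    have h3 := Cfsg.Agent.H595.Solv.classInner_comp_equiv e (θ ∘ ι) (β : D → ℂ)
    rw [h2] at h3
    unfold mlt
    rw [show ((cjIrr e β : IrrCharacter D) : D → ℂ) = (β : D → ℂ) ∘ e from rfl, h3]
  · show charDegree ((β : D → ℂ) ∘ e) = _
    unfold charDegree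
    rw [Function.comp_apply, map_one]

/-- There is a good character fixed by a `p`-group of operators. -/
theorem BSet.exists_inv (h : BSet p P ι) (hM : IsPModular p M) (hD : ¬ p ∣ Nat.card D) {θ : K → ℂ}
    (hθ : IsIrrCharacter K θ) (hd : ¬ p ∣ charDegree θ)
    {S : Type*} [Group S] [MulDistribMulAction S K] [MulDistribMulAction S D]
    (hS : IsPGroup p S) (hι : ∀ (s : S) (d : D), ι (s • d) = s • ι d)
    (hP : ∀ (s : S), ∀ u ∈ P, s • u ∈ P) (hinv : ∀ (s : S) (x : K), θ (s • x) = θ x) :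
    ∃ β : IrrCharacter D, Good p P ι θ β ∧ Inv S (β : D → ℂ) := by
  classical
  obtain ⟨β₀, hβ₀⟩ := h.exists_good hθ hd
  have hfin : Finite (IrrCharacter D) := finite_irr
  let _ : MulAction S (IrrCharacter D) := actIrr S
  have hcoe : ∀ (s : S) (β : IrrCharacter D), s • β =
      cjIrr (MulDistribMulAction.toMulEquiv D s⁻¹) β := fun s β => rfl
  let X := {β : IrrCharacter D // Good p P ι θ β}
  have hX : ∀ (s : S) (β : X), Good p P ι θ (s • (β : IrrCharacter D)) := by
    intro s β
    rw [hcoe]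
    exact h.good_aut (MulDistribMulAction.toMulEquiv K s⁻¹) (MulDistribMulAction.toMulEquiv D s⁻¹)
      (fun d => hι s⁻¹ d) (fun u hu => hP s⁻¹ u hu) (fun x => hinv s⁻¹ x) β.2
  let _ : MulAction S X :=
    { smul := fun s β => ⟨s • (β : IrrCharacter D), hX s β⟩
      one_smul := fun β => Subtype.ext (one_smul S (β : IrrCharacter D))
      mul_smul := fun s t β => Subtype.ext (mul_smul s t (β : IrrCharacter D)) }
  have hcard : ¬ p ∣ Nat.card X := by
    have h1 : Nat.card X = Nat.card (NOrb P ι β₀) := by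
      refine Nat.card_congr (Equiv.subtypeEquivRight fun β => ?_)
      constructor
      · intro hg
        exact h.unique hM hD hθ hβ₀ hg
      · intro hr
        exact good_of_equiv (by rw [h.orb_eq hr]) (h.mlt_eq (isIrr_isClassFunction hθ) hr)
          (h.deg_eq hr) hβ₀
    rw [h1]
    intro hdv
    exact hβ₀ (hdv.mul_right _)
  obtain ⟨β, hβ⟩ := hS.nonempty_fixed_point_of_prime_not_dvd_card X hcard
  refine ⟨β, β.2, fun s d => ?_⟩
  have h1 := congrArg Subtype.val (hβ s⁻¹)
  have h2 := congrFun (congrArg Subtype.val h1) d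
  have h3 : ((s⁻¹ • (β : IrrCharacter D) : IrrCharacter D) : D → ℂ) d = (β : D → ℂ) (s⁻¹⁻¹ • d) :=
    rfl
  rw [inv_inv] at h3
  rw [← h3]
  exact h2

end

end Cfsg.Agent.H723.QD
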