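/-
# Invariant characters of a `p'`-group `Y = A Q`
-/
import Mathlib
import Cfsg.Agent.H723.QD.Inv
import Cfsg.Agent.H595.Central
import Cfsg.Agent.H595.Triple
import Cfsg.Agent.H672.RM.SM
import Cfsg.Agent.SignalizersComponents.CoprimeBasic

set_option linter.unusedSectionVars false
set_option linter.unusedVariables false

namespace Cfsg.Agent.H723.QD

open Cfsg
open scoped ComplexConjugate
open Cfsg.Agent.Characters.Core Cfsg.Agent.Characters.Clifford Cfsg.Agent.H672 Cfsg.Agent.H672.RM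
open Cfsg.Agent.H675.Nd

universe u

theorem charDegree_congr_one {G H : Type*} [Group G] [Group H] {χ : G → ℂ} {ψ : H → ℂ}
    (h : χ 1 = ψ 1) : charDegree χ = charDegree ψ := by
  unfold charDegree
  rw [h]

/-- The kernel of a character. -/
theorem mul_ker {X : Type*} [Group X] [Finite X] {χ : X → ℂ} (hχ : IsCharacter X χ) {k : X}
    (hk : χ k = χ 1) (x : X) : χ (x * k) = χ x := by
  obtain ⟨n, ρ, rfl⟩ := hχ
  have h1 : ρ.character 1 = (Module.finrank ℂ (Fin n → ℂ) : ℂ) := Representation.char_one ρ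
  have h2 : ρ k = LinearMap.id := by
    rw [← Cfsg.Agent.Characters.Values.character_eq_finrank_iff, hk, h1]
  show LinearMap.trace ℂ _ (ρ (x * k)) = LinearMap.trace ℂ _ (ρ x)
  rw [map_mul, h2]
  rfl

section

variable {G : Type u} [Group G] [Finite G] {p q : ℕ} [hp : Fact p.Prime] [hq : Fact q.Prime]

theorem card_mul_relIndex' {A B : Subgroup G} (h : A ≤ B) :
    Nat.card A * A.relIndex B = Nat.card B := by
  rw [← Subgroup.relIndex_bot_left, ← Subgroup.relIndex_bot_left,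
    Subgroup.relIndex_mul_relIndex _ _ _ bot_le h]

theorem card_sup_dvd {Q P : Subgroup G} (hPQ : P ≤ Subgroup.normalizer (Q : Set G)) :
    Nat.card (Q ⊔ P : Subgroup G) ∣ Nat.card Q * Nat.card P := by
  rw [← card_mul_relIndex' (le_sup_left : Q ≤ Q ⊔ P), relIndex_sup_of_le_normalizer hPQ]
  exact Nat.mul_dvd_mul_left _ (Subgroup.relIndex_dvd_card _ _)

theorem solvable_sup {Q P : Subgroup G} (hQ : IsPGroup q Q) (hP : IsPGroup p P)
    (hPQ : P ≤ Subgroup.normalizer (Q : Set G)) : Group.IsSolvable (Q ⊔ P : Subgroup G) := by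
  have hQn : (Q.subgroupOf (Q ⊔ P)).Normal :=
    normal_subgroupOf (sup_le Subgroup.le_normalizer hPQ)
  have h1 : Group.IsSolvable (Q.subgroupOf (Q ⊔ P)) := by
    have h2 : IsPGroup q (Q.subgroupOf (Q ⊔ P)) :=
      hQ.comap_of_injective _ (Subgroup.subtype_injective _)
    have : Group.IsNilpotent (Q.subgroupOf (Q ⊔ P)) := h2.isNilpotent
    infer_instance
  have h2 : Group.IsSolvable ((Q ⊔ P : Subgroup G) ⧸ (Q.subgroupOf (Q ⊔ P))) := by
    have h3 : IsPGroup p ((Q ⊔ P : Subgroup G) ⧸ (Q.subgroupOf (Q ⊔ P))) := by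
      obtain ⟨k, hk⟩ := IsPGroup.iff_card.1 hP
      have h4 : Nat.card ((Q ⊔ P : Subgroup G) ⧸ (Q.subgroupOf (Q ⊔ P))) ∣ p ^ k := by
        rw [← hk]
        show Q.relIndex (Q ⊔ P) ∣ _
        rw [relIndex_sup_of_le_normalizer hPQ]
        exact Subgroup.relIndex_dvd_card _ _
      obtain ⟨j, -, hj⟩ := (Nat.dvd_prime_pow hp.out).1 h4
      exact IsPGroup.of_card hj
    have : Group.IsNilpotent ((Q ⊔ P : Subgroup G) ⧸ (Q.subgroupOf (Q ⊔ P))) := h3.isNilpotent
    infer_instance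
  exact Group.isSolvable_of_ker_le_range (Q.subgroupOf (Q ⊔ P)).subtype
    (QuotientGroup.mk' (Q.subgroupOf (Q ⊔ P))) (by simp)

theorem not_dvd_of_pgroup (hpq : p ≠ q) {Q : Subgroup G} (hQ : IsPGroup q Q) :
    ¬ p ∣ Nat.card Q := by
  obtain ⟨k, hk⟩ := IsPGroup.iff_card.1 hQ
  rw [hk]
  intro h
  exact hpq ((Nat.prime_dvd_prime_iff_eq hp.out hq.out).1 (hp.out.dvd_of_dvd_pow h))

theorem coprime_sup {A Q P : Subgroup G} (hQ : IsPGroup q Q) (hP : IsPGroup p P)
    (hPQ : P ≤ Subgroup.normalizer (Q : Set G)) (hAq : ¬ q ∣ Nat.card A) (hAp : ¬ p ∣ Nat.card A) :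
    (Nat.card A).Coprime (Nat.card (Q ⊔ P : Subgroup G)) := by
  refine Nat.Coprime.coprime_dvd_right (card_sup_dvd hPQ) ?_
  obtain ⟨k, hk⟩ := IsPGroup.iff_card.1 hQ
  obtain ⟨j, hj⟩ := IsPGroup.iff_card.1 hP
  rw [hk, hj]
  refine Nat.Coprime.mul_right ?_ ?_
  · exact (Nat.Coprime.pow_left k ((Nat.Prime.coprime_iff_not_dvd hq.out).2 hAq)).symm
  · exact (Nat.Coprime.pow_left j ((Nat.Prime.coprime_iff_not_dvd hp.out).2 hAp)).symm

/-- **Lemma A.** -/
theorem lemA (hpq : p ≠ q) {A Y P Q : Subgroup G} (hAY : A ≤ Y)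
    (hYA : Y ≤ Subgroup.normalizer (A : Set G)) (hPA : P ≤ Subgroup.normalizer (A : Set G))
    (hPY : P ≤ Subgroup.normalizer (Y : Set G)) (hP : IsPGroup p P) (hQ : IsPGroup q Q)
    (hAq : ¬ q ∣ Nat.card A) (hYp : ¬ p ∣ Nat.card Y) (hY : A ⊔ Q = Y)
    (hPQ : P ≤ Subgroup.normalizer (Q : Set G))
    (hcomm : ∀ x ∈ A, (∀ u ∈ P, u * x = x * u) → ∀ s ∈ Q, s * x = x * s)
    (hC : ⁅Q, Q⁆ ⊓ Subgroup.centralizer (P : Set G) = ⊥) {β : Y → ℂ}
    (hβ : IsIrrCharacter Y β) (hPβ : P ≤ stab β) : ¬ q ∣ charDegree β := by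
  classical
  have hAp : ¬ p ∣ Nat.card A := fun h => hYp (h.trans (Subgroup.card_dvd_of_le hAY))
  have hdβ : ¬ p ∣ charDegree β := fun h => hYp (h.trans (degree_dvd_card hβ))
  obtain ⟨γ, hγ, hPγ, hover⟩ := exists_pinv_under hAY hPA hP hβ hPβ hdβ
  have hQY : Q ≤ Y := by rw [← hY]; exact le_sup_right
  have hSA : Q ⊔ P ≤ Subgroup.normalizer (A : Set G) := sup_le (hQY.trans hYA) hPA
  have hSγ : Q ⊔ P ≤ stab γ := by
    refine sinv_of_pinv le_sup_right hSA (coprime_sup hQ hP hPQ hAq hAp) (solvable_sup hQ hP hPQ)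
      ?_ hγ hPγ
    intro x hx hxP s hs
    have h1 : Q ⊔ P ≤ Subgroup.centralizer ({x} : Set G) := by
      refine sup_le (fun s hs => ?_) (fun u hu => ?_)
      · exact Subgroup.mem_centralizer_singleton_iff.2 (hcomm x hx hxP s hs)
      · exact Subgroup.mem_centralizer_singleton_iff.2 (hxP u hu)
    exact Subgroup.mem_centralizer_singleton_iff.1 (h1 hs)
  -- the extension of `γ`
  let H : Subgroup G := A ⊔ (Q ⊔ P)
  have hAH : A ≤ H := le_sup_left
  have hYH : Y ≤ H := by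
    rw [← hY]
    exact sup_le le_sup_left (le_sup_left.trans le_sup_right)
  have hPH : P ≤ H := le_sup_right.trans le_sup_right
  have hHγ : H ≤ stab γ := sup_le (le_stab (isIrr_isClassFunction hγ)) hSγ
  have hcop : (Nat.card A).Coprime (A.relIndex H) := by
    have h1 : A.relIndex H = A.relIndex (Q ⊔ P) := relIndex_sup_of_le_normalizer hSA
    rw [h1]
    exact Nat.Coprime.coprime_dvd_right (Subgroup.relIndex_dvd_card _ _)
      (coprime_sup hQ hP hPQ hAq hAp)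
  obtain ⟨γh, hγh, hres⟩ := exists_ext hAH hγ hHγ hcop
  let χ₀ : Y → ℂ := fun y => γh (Subgroup.inclusion hYH y)
  have hχ₀A : ∀ k : A, χ₀ (Subgroup.inclusion hAY k) = γ k := fun k => hres k
  have hχ₀ : IsIrrCharacter Y χ₀ := by
    refine Cfsg.Agent.H595.Triple.isIrr_of_comp (Subgroup.inclusion hAY)
      (isCharacter_comp (Subgroup.inclusion hYH) (isIrr_isCharacter hγh)) ?_
    have : χ₀ ∘ Subgroup.inclusion hAY = γ := funext hχ₀A
    show IsIrrCharacter A (χ₀ ∘ Subgroup.inclusion hAY)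
    rw [this]
    exact hγ
  have hgal := gal hAY hYA hγ hχ₀ hχ₀A
  obtain ⟨μ, ⟨hμ, hμA⟩, hμβ⟩ := hgal.surjOn ⟨hβ, hover⟩
  have hμβ' : ∀ y, μ y * χ₀ y = β y := fun y => congrFun hμβ y
  -- `μ` is `P`-invariant
  have hPμ : P ≤ stab μ := by
    intro x hx
    refine ⟨hPY hx, ?_⟩
    refine hgal.injOn ⟨isIrr_tw (hPY hx) hμ, fun k => ?_⟩ ⟨hμ, hμA⟩ ?_
    · rw [tw_apply (hPY hx), tw_apply (hPY hx)]
      have h1 : (x : G) * k * x⁻¹ ∈ A := ((Subgroup.mem_normalizer_iff.1 (hPA hx)) k).1 k.2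
      have h2 := hμA ⟨_, h1⟩
      have h3 : (⟨x * ((1 : Y) : G) * x⁻¹, conj_mem_of_mem (hPY hx) 1⟩ : Y) = 1 :=
        Subtype.ext (by simp)
      rw [h3]
      exact h2
    · funext y
      show tw Y x μ y * χ₀ y = μ y * χ₀ y
      rw [hμβ', tw_apply (hPY hx)]
      have h1 : χ₀ ⟨x * (y : G) * x⁻¹, conj_mem_of_mem (hPY hx) y⟩ = χ₀ y := by
        have h2 := (isIrr_isClassFunction hγh) (Subgroup.inclusion hYH y) ⟨x, hPH hx⟩
        exact h2
      have h3 := stab_apply (hPβ hx) (a := y) (a' := ⟨x * (y : G) * x⁻¹, conj_mem_of_mem (hPY hx) y⟩) rfl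
      rw [← h1, hμβ', h3]
  -- restriction to `Q`
  let μQ : Q → ℂ := fun s => μ (Subgroup.inclusion hQY s)
  have hAn : (A.subgroupOf Y).Normal := normal_subgroupOf hYA
  have hμQ : IsIrrCharacter Q μQ := by
    obtain ⟨μ', hμ'⟩ := Cfsg.Agent.H595.Central.descend (QuotientGroup.mk' (A.subgroupOf Y))
      (QuotientGroup.mk'_surjective _) ⟨μ, hμ⟩ (fun x k hk => by
        have h1 : k ∈ A.subgroupOf Y := by
          rwa [← QuotientGroup.ker_mk' (A.subgroupOf Y), MonoidHom.mem_ker]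
        refine mul_ker (isIrr_isCharacter hμ) ?_ x
        have h2 := hμA ⟨k, Subgroup.mem_subgroupOf.1 h1⟩
        exact h2)
    have hsurj : Function.Surjective ((QuotientGroup.mk' (A.subgroupOf Y)).comp
        (Subgroup.inclusion hQY)) := by
      intro z
      obtain ⟨y, rfl⟩ := QuotientGroup.mk'_surjective _ z
      have h1 : (y : G) ∈ A ⊔ Q := by rw [hY]; exact y.2
      obtain ⟨a, ha, s, hs, has⟩ :=
        (Cfsg.Agent.SignalizersComponents.CoprimeBasic.mem_sup_iff (hQY.trans hYA) _).1 h1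
      refine ⟨⟨s, hs⟩, ?_⟩
      have h2 : y = (⟨a, hAY ha⟩ : Y) * Subgroup.inclusion hQY ⟨s, hs⟩ := Subtype.ext has.symm
      have h3 : QuotientGroup.mk' (A.subgroupOf Y) (⟨a, hAY ha⟩ : Y) = 1 := by
        rw [← MonoidHom.mem_ker, QuotientGroup.ker_mk']
        exact Subgroup.mem_subgroupOf.2 ha
      rw [MonoidHom.comp_apply, h2, map_mul, h3, one_mul]
    have h1 := isIrr_comp _ hsurj μ'.2
    have h2 : ((μ' : _ → ℂ) ∘ ((QuotientGroup.mk' (A.subgroupOf Y)).comp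
        (Subgroup.inclusion hQY))) = μQ := funext fun s => hμ' _
    rwa [h2] at h1
  have hPμQ : P ≤ stab μQ := by
    intro x hx
    rw [mem_stab_iff_inv (hPQ hx)]
    intro s s' hss
    exact stab_apply (hPμ hx) (a := Subgroup.inclusion hQY s) (a' := Subgroup.inclusion hQY s') hss
  have hQQ : ⁅Q, Q⁆ ≤ Q := Subgroup.commutator_le_self Q
  have hPQQ : P ≤ Subgroup.normalizer ((⁅Q, Q⁆ : Subgroup G) : Set G) := by
    intro x hx
    have h1 : Q.map (MulAut.conj x).toMonoidHom = Q := map_conj_eq_of_mem (hPQ hx)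
    apply mem_normalizer_of_map_conj
    rw [Subgroup.map_commutator, h1]
  have hpQ : ¬ p ∣ Nat.card Q := not_dvd_of_pgroup hpq hQ
  obtain ⟨τ, hτ, hPτ, hoτ⟩ := exists_pinv_under hQQ hPQQ hP hμQ hPμQ
    (fun h => hpQ (h.trans (degree_dvd_card hμQ)))
  have hτ1 : τ = 1 := eq_one_of_pinv hP hPQQ
    (fun h => hpQ (h.trans (Subgroup.card_dvd_of_le hQQ))) hC hτ hPτ
  rw [hτ1, over_one_iff hQQ (Subgroup.normalizer_commutator_ge_left Q Q) hμQ] at hoτ
  have hμQ1 : μQ 1 = 1 := by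
    refine Cfsg.Agent.CharactersDeep.FeitLinear.apply_one_eq_one ((⁅Q, Q⁆ : Subgroup G).subgroupOf Q)
      ?_ hμQ ?_
    · intro x y
      rw [Subgroup.mem_subgroupOf]
      have := Subgroup.commutator_mem_commutator x.2 y.2
      rw [commutatorElement_def] at this
      exact this
    · intro k hk
      exact hoτ ⟨k, Subgroup.mem_subgroupOf.1 hk⟩
  have hμ1 : μ 1 = 1 := by
    have : μQ 1 = μ 1 := by
      show μ (Subgroup.inclusion hQY 1) = μ 1
      rw [map_one]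
    rw [← this]
    exact hμQ1
  have hdeg : charDegree β = charDegree γ := by
    apply charDegree_congr_one
    rw [← hμβ', hμ1, one_mul, ← hχ₀A, map_one]
  rw [hdeg]
  exact fun h => hAq (h.trans (degree_dvd_card hγ))

end

end Cfsg.Agent.H723.QD
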