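/-
# Characters of `K` reducible on a normal subgroup `L` with `K / L` a `q`-group
-/
import Mathlib
import Cfsg.Agent.H675.Nd.Cliff
import Cfsg.Agent.CharactersDeep.PrimeIndex
import Cfsg.Agent.H672.Ext
import Cfsg.Agent.H595.Solv

set_option linter.unusedSectionVars false
set_option linter.unusedVariables false

namespace Cfsg.Agent.H723.QD

open Cfsg
open scoped ComplexConjugate
open Cfsg.Agent.Characters.Core Cfsg.Agent.Characters.Clifford Cfsg.Agent.H672 Cfsg.Agent.H672.RM
open Cfsg.Agent.H675.Nd

universe u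

section

variable {K : Type u} [Group K] [Finite K] {q : ℕ} [hq : Fact q.Prime]

theorem isPGroup_quot (L : Subgroup K) [L.Normal] {k : ℕ} (hidx : L.index = q ^ k) :
    IsPGroup q (K ⧸ L) := IsPGroup.of_card (n := k) hidx

/-- A proper subgroup containing `L`, `K / L` a `q`-group, lies in a normal subgroup of index `q`. -/
theorem exists_normal_prime (L : Subgroup K) [hL : L.Normal] {k : ℕ} (hidx : L.index = q ^ k)
    (T : Subgroup K) (hLT : L ≤ T) (hT : T ≠ ⊤) :
    ∃ M : Subgroup K, M.Normal ∧ T ≤ M ∧ M.index = q := by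
  classical
  obtain ⟨M, hM, hTM⟩ := (eq_top_or_exists_le_coatom T).resolve_left hT
  have hLM : L ≤ M := hLT.trans hTM
  have hMn : M.Normal := by
    have hnil : Group.IsNilpotent (K ⧸ L) := (isPGroup_quot L hidx).isNilpotent
    have hnc : NormalizerCondition (K ⧸ L) := Group.normalizerCondition_of_isNilpotent
    have hsurj := QuotientGroup.mk'_surjective L
    have hMc : (M.map (QuotientGroup.mk' L)).comap (QuotientGroup.mk' L) = M := by
      rw [Subgroup.comap_map_eq, QuotientGroup.ker_mk']
      exact sup_eq_left.2 hLM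
    have h1 : M.map (QuotientGroup.mk' L) ≠ ⊤ := by
      intro h
      rw [h, Subgroup.comap_top] at hMc
      exact hM.1 hMc.symm
    have h2 := hnc _ (lt_top_iff_ne_top.2 h1)
    have h3 : M < Subgroup.normalizer (M : Set K) := by
      refine lt_of_le_of_ne Subgroup.le_normalizer fun h => ?_
      have h4 : (Subgroup.normalizer ((M.map (QuotientGroup.mk' L) : Subgroup (K ⧸ L)) :
          Set (K ⧸ L))).comap (QuotientGroup.mk' L) = Subgroup.normalizer (M : Set K) := by
        rw [Subgroup.comap_normalizer_eq_of_surjective _ hsurj, hMc]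
      rw [← h] at h4
      have h5 : M.map (QuotientGroup.mk' L) =
          Subgroup.normalizer ((M.map (QuotientGroup.mk' L) : Subgroup (K ⧸ L)) : Set (K ⧸ L)) := by
        conv_lhs => rw [← h4]
        exact Subgroup.map_comap_eq_self_of_surjective hsurj _
      exact h2.ne h5
    exact Subgroup.normalizer_eq_top_iff.1 (hM.2 _ h3)
  have h1 : M.index ∣ q ^ k := hidx ▸ Subgroup.index_dvd_of_le hLM
  obtain ⟨j, -, hj⟩ := (Nat.dvd_prime_pow hq.out).1 h1
  rcases j with _ | j
  · rw [pow_zero, Subgroup.index_eq_one] at hj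
    exact absurd hj hM.1
  obtain ⟨M', hM'n, hMM', hM'i⟩ := Cfsg.Agent.CharactersDeep.PrimeIndex.exists_normal_between M
    hq.out hj
  have h2 : M' ≠ ⊤ := by
    intro h
    rw [h, Subgroup.index_top] at hM'i
    exact hq.out.one_lt.ne hM'i
  have h3 : M = M' := by
    by_contra hne
    exact h2 (hM.2 _ (lt_of_le_of_ne hMM' hne))
  exact ⟨M, hMn, hTM, by rw [h3]; exact hM'i⟩

/-- There is a normal subgroup of relative index `q` over `L`. -/
theorem exists_normal_over (L : Subgroup K) [hL : L.Normal] {k : ℕ}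
    (hidx : L.index = q ^ (k + 1)) :
    ∃ Z : Subgroup K, Z.Normal ∧ L ≤ Z ∧ L.relIndex Z = q := by
  classical
  have hp := isPGroup_quot L hidx
  have hcard : Nat.card (K ⧸ L) = q ^ (k + 1) := hidx
  have hnt : Nontrivial (K ⧸ L) := by
    rw [← Finite.one_lt_card_iff_nontrivial, hcard]
    exact Nat.one_lt_pow (Nat.succ_ne_zero k) hq.out.one_lt
  have h1 : Nontrivial (Subgroup.center (K ⧸ L)) := hp.center_nontrivial
  have h2 : IsPGroup q (Subgroup.center (K ⧸ L)) := hp.to_subgroup _
  obtain ⟨j, hj⟩ := IsPGroup.iff_card.1 h2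
  have h3 : q ∣ Nat.card (Subgroup.center (K ⧸ L)) := by
    rw [hj]
    refine dvd_pow_self q fun h => ?_
    rw [h, pow_zero] at hj
    exact absurd hj (Finite.one_lt_card_iff_nontrivial.2 h1).ne'
  obtain ⟨z, hz⟩ := exists_prime_orderOf_dvd_card' q h3
  let Z0 : Subgroup (K ⧸ L) := Subgroup.zpowers (z : K ⧸ L)
  have hZ0 : Z0 ≤ Subgroup.center (K ⧸ L) := by
    rw [Subgroup.zpowers_le]
    exact z.2
  have hZ0n : Z0.Normal := ⟨fun n hn g => by
    have := Subgroup.mem_center_iff.1 (hZ0 hn) g
    rw [this, mul_inv_cancel_right]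
    exact hn⟩
  refine ⟨Z0.comap (QuotientGroup.mk' L), inferInstance, ?_, ?_⟩
  · intro x hx
    rw [Subgroup.mem_comap]
    have : QuotientGroup.mk' L x = 1 := by
      rw [← MonoidHom.mem_ker, QuotientGroup.ker_mk']
      exact hx
    rw [this]
    exact one_mem _
  · have h4 := Subgroup.relIndex_ker (K := Z0.comap (QuotientGroup.mk' L)) (QuotientGroup.mk' L)
    rw [QuotientGroup.ker_mk', Subgroup.map_comap_eq_self_of_surjective
      (QuotientGroup.mk'_surjective L)] at h4
    rw [h4, Nat.card_zpowers, Subgroup.orderOf_coe, hz]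

/-- A character induced from a subgroup of `M` normal vanishes off `M`. -/
theorem indFun_vanish [Fintype K] {T M : Subgroup K} [hM : M.Normal] (hTM : T ≤ M) (ψ : T → ℂ) {x : K}
    (hx : x ∉ M) : indFun T ψ x = 0 := by
  rw [indFun_apply, Finset.sum_eq_zero, mul_zero]
  intro g _
  refine extendByZero_of_notMem T ψ fun h => hx ?_
  have h1 := hM.conj_mem _ (hTM h) g
  have h2 : g * (g⁻¹ * x * g) * g⁻¹ = x := by group
  rwa [h2] at h1

theorem relM (n : ℕ) : ∀ (L : Subgroup K) [hL : L.Normal] (k : ℕ) (hn : L.index = n)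
    (hidx : L.index = q ^ k) {θ : K → ℂ}
    (hθ : IsIrrCharacter K θ) (hred : ¬ IsIrrCharacter L (fun x : L => θ x)),
    ∃ l : K →* ℂˣ, l ≠ 1 ∧ (∀ x ∈ L, l x = 1) ∧ (∀ x, l x ^ q = 1) ∧ ∀ x, (l x : ℂ) * θ x = θ x := by
  classical
  induction n using Nat.strong_induction_on with
  | _ n ih =>
  intro L hL k hn hidx θ hθ hred
  have : Fintype K := Fintype.ofFinite K
  have : Fintype L := Fintype.ofFinite L
  obtain ⟨τ, hτ, hoτ⟩ := exists_under (f := L.subtype) hθ
  have hoτ' : classInner (fun x : L => θ x) τ ≠ 0 := (over_subtype_iff L θ τ).1 hoτ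
  by_cases hT : inertia L τ = ⊤
  · -- `τ` is invariant
    rcases k with _ | k
    · exfalso
      rw [pow_zero, Subgroup.index_eq_one] at hidx
      apply hred
      subst hidx
      exact isIrr_comp (Subgroup.topEquiv (G := K)).toMonoidHom
        (Subgroup.topEquiv (G := K)).surjective hθ
    obtain ⟨Z, hZn, hLZ, hZq⟩ := exists_normal_over L hidx
    by_cases hZ : IsIrrCharacter Z (fun x : Z => θ x)
    · exfalso
      have : Fintype Z := Fintype.ofFinite Z
      have h1 := Cfsg.Agent.CharactersDeep.PrimeIndex.norm_restrict_prime_index (L.subgroupOf Z)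
        hq.out hZq hZ
      have h2 := Cfsg.Agent.CharDeep.CliffordCorr.restrict_eq_smul_of_invariant L hθ hτ
        (fun g => mem_inertia.1 (by rw [hT]; trivial)) hoτ'
      obtain ⟨e, he⟩ := classInner_isNat (isCharacter_comp L.subtype (isIrr_isCharacter hθ))
        (isIrr_isCharacter hτ)
      have he' : classInner (fun x : L => θ x) τ = e := he
      rw [he'] at h2
      have h3 : classInner (fun x : L.subgroupOf Z => θ (x : Z)) (fun x : L.subgroupOf Z => θ (x : Z))
          = (e : ℂ) * e := by
        have h4 := Cfsg.Agent.H595.Solv.classInner_comp_equiv (Subgroup.subgroupOfEquivOfLe hLZ)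
          (fun x : L => θ x) (fun x : L => θ x)
        have h5 : (fun x : L => θ x) ∘ (Subgroup.subgroupOfEquivOfLe hLZ) =
            fun x : L.subgroupOf Z => θ (x : Z) := rfl
        rw [h5] at h4
        rw [h4, h2, classInner_smul_left, classInner_smul_right, classInner_irr_self hτ]
        simp
      have h1' : ((e * e : ℕ) : ℂ) = 1 ∨ ((e * e : ℕ) : ℂ) = (q : ℕ) := by
        push_cast
        rw [← h3]
        exact h1
      have h6 : e * e = 1 ∨ e * e = q := by
        rcases h1' with h | h
        · left; exact_mod_cast h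
        · right; exact_mod_cast h
      rcases h6 with h | h
      · have he1 : e = 1 := Nat.eq_one_of_mul_eq_one_left h
        apply hred
        rw [h2, he1, Nat.cast_one, one_smul]
        exact hτ
      · have := hq.out
        rw [← h] at this
        have he1 : e ≠ 1 := by
          rintro rfl
          exact Nat.not_prime_one this
        exact Nat.not_prime_mul he1 he1 this
    · have hlt : Z.index < n := by
        rw [← hn, ← Subgroup.relIndex_mul_index hLZ, hZq]
        have : 0 < Z.index := Nat.pos_of_ne_zero Subgroup.index_ne_zero_of_finite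
        nlinarith [hq.out.two_le]
      have hdvd : Z.index ∣ q ^ (k + 1) := hidx ▸ Subgroup.index_dvd_of_le hLZ
      obtain ⟨j, -, hj⟩ := (Nat.dvd_prime_pow hq.out).1 hdvd
      obtain ⟨l, h1, h2, h3, h4⟩ := ih _ hlt Z j rfl hj hθ hZ
      exact ⟨l, h1, fun x hx => h2 x (hLZ hx), h3, h4⟩
  · obtain ⟨M, hMn, hTM, hMq⟩ := exists_normal_prime L hidx (inertia L τ)
      (le_inertia (isIrr_isClassFunction hτ)) hT
    have hLM : L ≤ M := (le_inertia (isIrr_isClassFunction hτ)).trans hTM
    have : Fintype (inertia L τ) := Fintype.ofFinite _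
    obtain ⟨ψ, hψ, hind, -⟩ := Cfsg.Agent.CharDeep.CliffordCorr.clifford_correspondence L τ hτ
      (inertia L τ) (fun g => mem_inertia_iff) (le_inertia (isIrr_isClassFunction hτ)) θ hθ hoτ'
    obtain ⟨l, hl1, hl2⟩ := Cfsg.Agent.CharactersDeep.PrimeIndex.exists_hom_ker M hq.out hMq
    refine ⟨l, ?_, fun x hx => (hl1 x).2 (hLM hx), hl2, fun x => ?_⟩
    · rintro rfl
      have : M = ⊤ := by
        rw [eq_top_iff]
        intro x _
        exact (hl1 x).1 rfl
      rw [this, Subgroup.index_top] at hMq
      exact hq.out.one_lt.ne hMq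
    · by_cases hx : x ∈ M
      · rw [(hl1 x).2 hx, Units.val_one, one_mul]
      · have : θ x = 0 := by
          rw [← hind]
          exact indFun_vanish hTM ψ hx
        rw [this, mul_zero]

end

end Cfsg.Agent.H723.QD
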