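/-
# The base case: `G = L Q P` with `L` a normal `q'`-subgroup
-/
import Mathlib
import Cfsg.Agent.H723.QD.LemA
import Cfsg.Agent.H723.QD.BrS
import Cfsg.Agent.H723.QD.RelM
import Cfsg.Agent.Blocks.CentralSylow
import Cfsg.Agent.Blocks.ExistsModular
import Cfsg.Agent.CharactersDeep.QuatSylow
import Cfsg.Agent.H676.RM.Grp

set_option linter.unusedSectionVars false
set_option linter.unusedVariables false

namespace Cfsg.Agent.H723.QD

open Cfsg
open scoped ComplexConjugate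
open Cfsg.Agent.Characters.Core Cfsg.Agent.Characters.Clifford Cfsg.Agent.H672 Cfsg.Agent.H672.RM
open Cfsg.Agent.H675.Nd
open Cfsg.Agent.H593.GlaubermanP (Inv)

universe u

section

variable {G : Type u} [Group G] [Finite G] {p q : ℕ} [hp : Fact p.Prime] [hq : Fact q.Prime]

/-- A `p`-element centralising a Sylow `p`-subgroup lies in it. -/
theorem mem_of_centralizes {K : Type*} [Group K] [Finite K] {P₀ : Subgroup K} (hP : IsPGroup p P₀)
    (hs : ¬ p ∣ P₀.index) {x : K} (hx : x ∈ Subgroup.centralizer (P₀ : Set K)) {k : ℕ}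
    (hxk : x ^ p ^ k = 1) : x ∈ P₀ := by
  have hz : IsPGroup p (Subgroup.zpowers x) := by
    have : orderOf x ∣ p ^ k := orderOf_dvd_of_pow_eq_one hxk
    obtain ⟨j, -, hj⟩ := (Nat.dvd_prime_pow hp.out).1 this
    exact IsPGroup.of_card (n := j) (by rw [Nat.card_zpowers, hj])
  have hle : Subgroup.zpowers x ≤ Subgroup.normalizer (P₀ : Set K) := by
    rw [Subgroup.zpowers_le]
    exact Subgroup.centralizer_le_normalizer _ hx
  have h1 : IsPGroup p (Subgroup.zpowers x ⊔ P₀ : Subgroup K) := hz.to_sup_of_normal_right' hP hle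
  let S : Sylow p K := IsPGroup.toSylow hP hs
  have h2 : Subgroup.zpowers x ⊔ P₀ = (S : Subgroup K) := S.3 h1 (by
    show P₀ ≤ _
    exact le_sup_right)
  have h3 : x ∈ Subgroup.zpowers x ⊔ P₀ := (le_sup_left : Subgroup.zpowers x ≤ _)
    (Subgroup.mem_zpowers x)
  rw [h2] at h3
  exact h3

/-- The `p'`-part of the centralizer of a Sylow `p`-subgroup. -/
theorem exists_pprime_cent {K : Type*} [Group K] [Finite K] {P₀ : Subgroup K} (hP : IsPGroup p P₀)
    (hs : ¬ p ∣ P₀.index) : ∃ Y : Subgroup K, ¬ p ∣ Nat.card Y ∧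
      ∀ y, y ∈ Y ↔ y ∈ Subgroup.centralizer (P₀ : Set K) ∧ ¬ p ∣ orderOf y := by
  classical
  let C := Subgroup.centralizer (P₀ : Set K)
  obtain ⟨T⟩ : Nonempty (Sylow p C) := inferInstance
  have hT : (T : Subgroup C) ≤ Subgroup.center C := by
    intro t ht
    have h1 : (t : K) ∈ P₀ := by
      obtain ⟨k, hk⟩ := T.2 ⟨t, ht⟩
      have h2 : (t : K) ^ p ^ k = 1 := by
        have := congrArg (fun z : (T : Subgroup C) => ((z : C) : K)) hk
        simpa using this
      exact mem_of_centralizes hP hs t.2 h2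
    rw [Subgroup.mem_center_iff]
    intro c
    refine Subtype.ext ?_
    exact (Subgroup.mem_centralizer_iff.1 c.2 t h1).symm
  obtain ⟨Y', -, -, hY'c, hY'⟩ := Cfsg.Agent.Blocks.CentralSylow.exists_complement T hT
  refine ⟨Y'.map C.subtype, ?_, fun y => ?_⟩
  · rw [Subgroup.card_map_of_injective C.subtype_injective]
    exact (Nat.Prime.coprime_iff_not_dvd hp.out).1 hY'c.symm
  · constructor
    · rintro ⟨c, hc, rfl⟩
      refine ⟨c.2, ?_⟩
      have := (hY' c).1 hc
      rwa [show orderOf (C.subtype c) = orderOf c from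
        orderOf_injective C.subtype C.subtype_injective c]
    · rintro ⟨h1, h2⟩
      refine ⟨⟨y, h1⟩, (hY' _).2 ?_, rfl⟩
      rwa [Subgroup.orderOf_mk]

/-- The hypotheses of the base case. -/
structure BaseHyp (p q : ℕ) (L P Q : Subgroup G) : Prop where
  ne : p ≠ q
  Ln : L.Normal
  Lq : ¬ q ∣ Nat.card L
  pP : IsPGroup p P
  sP : ¬ p ∣ P.index
  qQ : IsPGroup q Q
  PQ : P ≤ Subgroup.normalizer (Q : Set G)
  top : L ⊔ Q ⊔ P = ⊤
  comm : ∀ x ∈ L, x ∈ Subgroup.normalizer (P : Set G) → ∀ y ∈ Q, y * x = x * y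
  cent : ⁅Q, Q⁆ ⊓ Subgroup.centralizer (P : Set G) = ⊥

variable {L P Q : Subgroup G}

theorem BaseHyp.K_normal (h : BaseHyp p q L P Q) : (L ⊔ Q).Normal := by
  have := h.Ln
  rw [← Subgroup.normalizer_eq_top_iff, eq_top_iff, ← h.top]
  refine sup_le Subgroup.le_normalizer ?_
  refine le_trans ?_ (Subgroup.normalizer_inf_normalizer_le_normalizer_sup L Q)
  refine le_inf ?_ h.PQ
  rw [Subgroup.normalizer_eq_top]
  exact le_top

theorem BaseHyp.K_index (h : BaseHyp p q L P Q) : ∃ k, (L ⊔ Q).index = p ^ k := by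
  have := h.K_normal
  obtain ⟨j, hj⟩ := IsPGroup.iff_card.1 h.pP
  have h1 : (L ⊔ Q).index ∣ p ^ j := by
    rw [← hj, ← Subgroup.relIndex_top_right, ← h.top, Subgroup.relIndex_sup_left]
    exact Subgroup.relIndex_dvd_card _ _
  obtain ⟨k, -, hk⟩ := (Nat.dvd_prime_pow hp.out).1 h1
  exact ⟨k, hk⟩

theorem BaseHyp.L_relIndex (h : BaseHyp p q L P Q) : ∃ k, L.relIndex (L ⊔ Q) = q ^ k := by
  have := h.Ln
  obtain ⟨j, hj⟩ := IsPGroup.iff_card.1 h.qQ
  have h1 : L.relIndex (L ⊔ Q) ∣ q ^ j := by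
    rw [← hj, Subgroup.relIndex_sup_left]
    exact Subgroup.relIndex_dvd_card _ _
  obtain ⟨k, -, hk⟩ := (Nat.dvd_prime_pow hq.out).1 h1
  exact ⟨k, hk⟩

/-- `P ∩ L Q ≤ L` -/
theorem BaseHyp.P_inf (h : BaseHyp p q L P Q) {u : G} (hu : u ∈ P) (huK : u ∈ L ⊔ Q) : u ∈ L := by
  have := h.Ln
  obtain ⟨k, hk⟩ := h.L_relIndex
  obtain ⟨j, hj⟩ := h.pP ⟨u, hu⟩
  have hj' : u ^ p ^ j = 1 := by
    have := congrArg Subtype.val hj
    simpa using this
  have h1 : u ^ q ^ k ∈ L := by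
    have := Subgroup.pow_index_mem (L.subgroupOf (L ⊔ Q)) (⟨u, huK⟩ : (L ⊔ Q : Subgroup G))
    have h2 : (L.subgroupOf (L ⊔ Q)).index = q ^ k := hk
    rw [h2, Subgroup.mem_subgroupOf] at this
    simpa using this
  have hcop : Nat.Coprime (p ^ j) (q ^ k) :=
    Nat.Coprime.pow _ _ ((Nat.coprime_primes hp.out hq.out).2 h.ne)
  exact Cfsg.Agent.H676.RM.Grp.mem_of_pow_mem hcop (by rw [hj']; exact one_mem _) h1

/-- `Q` centralises `P ∩ L Q` -/
theorem BaseHyp.comm_inf (h : BaseHyp p q L P Q) {u : G} (hu : u ∈ P) (huK : u ∈ L ⊔ Q) {y : G}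
    (hy : y ∈ Q) : u * y = y * u :=
  (h.comm u (h.P_inf hu huK) (Subgroup.le_normalizer hu) y hy).symm

theorem BaseHyp.main (h : BaseHyp p q L P Q) {χ : G → ℂ} (hχ : IsIrrCharacter G χ)
    (hd : ¬ p ∣ charDegree χ) : ¬ q ∣ charDegree χ := by
  classical
  intro hqχ
  obtain ⟨M, hM⟩ := Cfsg.Agent.Blocks.ExistsModular.exists_isPModular hp.out
  have hLn := h.Ln
  have hKn := h.K_normal
  obtain ⟨a, ha⟩ := h.K_index
  obtain ⟨b, hb⟩ := h.L_relIndex
  -- the restriction to `K = L Q`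
  let K : Subgroup G := L ⊔ Q
  have hKn' : K.Normal := hKn
  let θ : K → ℂ := fun x => χ x
  have hθ : IsIrrCharacter K θ := by
    obtain ⟨θ₀, hθ₀, ho⟩ := exists_under (f := K.subtype) hχ
    have h1 := comp_eq_of_pindex K.subtype K.subtype_injective
      (by rw [Subgroup.range_subtype]; exact hKn') (p := p) (k := a) hp.out
      (by rw [Subgroup.range_subtype]; exact ha.dvd) hχ hd hθ₀ ho
    have h2 : θ = θ₀ := h1
    rw [h2]
    exact hθ₀
  have hdeg : charDegree θ = charDegree χ := charDegree_congr_one rfl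
  have hdθ : ¬ p ∣ charDegree θ := by rw [hdeg]; exact hd
  -- the linear character
  let LK : Subgroup K := L.subgroupOf K
  have hLKn : LK.Normal := inferInstance
  have hLKi : LK.index = q ^ b := hb
  have hred : ¬ IsIrrCharacter LK (fun x : LK => θ x) := by
    intro hirr
    have h1 := degree_dvd_card hirr
    have h2 : charDegree (fun x : LK => θ x) = charDegree χ := charDegree_congr_one rfl
    rw [h2] at h1
    have h3 : Nat.card LK = Nat.card L :=
      Nat.card_congr (Subgroup.subgroupOfEquivOfLe (le_sup_left : L ≤ K)).toEquiv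
    rw [h3] at h1
    exact h.Lq (hqχ.trans h1)
  obtain ⟨l, hl1, hlL, hlq, hlθ⟩ := relM _ LK b rfl hLKi hθ hred
  -- the Sylow subgroup of `K`
  let P₀ : Subgroup K := P.subgroupOf K
  have hP₀ : IsPGroup p P₀ := h.pP.comap_of_injective _ (Subgroup.subtype_injective _)
  have hP₀s : ¬ p ∣ P₀.index :=
    Cfsg.Agent.CharactersDeep.QuatSylow.not_dvd_relIndex_of_normal (IsPGroup.toSylow h.pP h.sP) K
  obtain ⟨Y', hY'c, hY'⟩ := exists_pprime_cent hP₀ hP₀s
  let Y : Subgroup G := Y'.map K.subtype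
  have hYK : Y ≤ K := by
    rintro _ ⟨y, -, rfl⟩
    exact y.2
  have hYmem : ∀ y : G, y ∈ Y ↔ y ∈ K ∧ (∀ u ∈ P, u ∈ K → u * y = y * u) ∧ ¬ p ∣ orderOf y := by
    intro y
    constructor
    · rintro ⟨y, hy, rfl⟩
      obtain ⟨h1, h2⟩ := (hY' y).1 hy
      refine ⟨y.2, fun u hu huK => ?_, ?_⟩
      · exact congrArg Subtype.val (Subgroup.mem_centralizer_iff.1 h1 ⟨u, huK⟩
          (Subgroup.mem_subgroupOf.2 hu))
      · rwa [show orderOf (K.subtype y) = orderOf y from Subgroup.orderOf_coe y]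
    · rintro ⟨h1, h2, h3⟩
      refine ⟨⟨y, h1⟩, (hY' _).2 ⟨?_, by rwa [Subgroup.orderOf_mk]⟩, rfl⟩
      rw [Subgroup.mem_centralizer_iff]
      intro u hu
      exact Subtype.ext (h2 u hu u.2)
  have hYp : ¬ p ∣ Nat.card Y := by
    rw [Subgroup.card_map_of_injective K.subtype_injective]
    exact hY'c
  have hQY : Q ≤ Y := by
    intro y hy
    refine (hYmem y).2 ⟨(le_sup_right : Q ≤ K) hy, fun u hu huK => h.comm_inf hu huK hy, ?_⟩
    intro hdv
    have h1 : orderOf y ∣ Nat.card Q := by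
      rw [← Subgroup.orderOf_mk y hy]
      exact orderOf_dvd_natCard _
    exact not_dvd_of_pgroup h.ne h.qQ (hdv.trans h1)
  let A : Subgroup G := Y ⊓ L
  have hAY : A ≤ Y := inf_le_left
  have hPY : P ≤ Subgroup.normalizer (Y : Set G) := by
    intro x hx
    refine Subgroup.mem_normalizer_fintype fun y hy => ?_
    obtain ⟨h1, h2, h3⟩ := (hYmem y).1 hy
    refine (hYmem _).2 ⟨hKn'.conj_mem y h1 x, fun u hu huK => ?_, ?_⟩
    · have h4 := h2 (x⁻¹ * u * x) (P.mul_mem (P.mul_mem (P.inv_mem hx) hu) hx) (by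
        have := hKn'.conj_mem u huK x⁻¹
        rwa [inv_inv] at this)
      calc u * (x * y * x⁻¹) = x * ((x⁻¹ * u * x) * y) * x⁻¹ := by group
        _ = x * y * x⁻¹ * u := by rw [h4]; group
    · rwa [show orderOf (x * y * x⁻¹) = orderOf y from
        orderOf_injective (MulAut.conj x).toMonoidHom (MulAut.conj x).injective y]
  have hLtop : Subgroup.normalizer (L : Set G) = ⊤ := Subgroup.normalizer_eq_top L
  have hinfn : ∀ {x : G}, x ∈ Subgroup.normalizer (Y : Set G) →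
      x ∈ Subgroup.normalizer (A : Set G) := by
    intro x hx
    refine Subgroup.mem_normalizer_fintype fun y hy => ⟨?_, hLn.conj_mem y hy.2 x⟩
    exact ((Subgroup.mem_normalizer_iff.1 hx) y).1 hy.1
  have hYA : Y ≤ Subgroup.normalizer (A : Set G) := fun x hx => hinfn (Subgroup.le_normalizer hx)
  have hPA : P ≤ Subgroup.normalizer (A : Set G) := fun x hx => hinfn (hPY hx)
  have hAQ : A ⊔ Q = Y := by
    refine le_antisymm (sup_le hAY hQY) fun y hy => ?_
    obtain ⟨x, hx, s, hs, rfl⟩ := (Cfsg.Agent.SignalizersComponents.CoprimeBasic.mem_sup_iff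
      (by rw [hLtop]; exact le_top) _).1 (hYK hy)
    have h1 : x ∈ Y := by
      have := Y.mul_mem hy (Y.inv_mem (hQY hs))
      rwa [mul_inv_cancel_right] at this
    exact mul_mem ((le_sup_left : A ≤ A ⊔ Q) ⟨h1, hx⟩) ((le_sup_right : Q ≤ A ⊔ Q) hs)
  have hAq : ¬ q ∣ Nat.card A := fun hdv =>
    h.Lq (hdv.trans (Subgroup.card_dvd_of_le inf_le_right))
  -- the Brauer setup
  let ι : Y →* K := Subgroup.inclusion hYK
  have hset : BSet p P₀ ι :=
    { inj := Subgroup.inclusion_injective _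
      pg := hP₀
      syl := hP₀s
      cen := fun d => by
        rw [Subgroup.mem_centralizer_iff]
        intro u hu
        exact Subtype.ext (((hYmem d).1 d.2).2.1 u hu u.2)
      norm := fun n hn d => by
        obtain ⟨h1, h2, h3⟩ := (hYmem d).1 d.2
        have h4 : (n : G) * d * (n : G)⁻¹ ∈ Y := by
          refine (hYmem _).2 ⟨K.mul_mem (K.mul_mem n.2 h1) (K.inv_mem n.2), fun u hu huK => ?_, ?_⟩
          · have h5 := (Subgroup.mem_normalizer_iff.1 (Subgroup.inv_mem _ hn) ⟨u, huK⟩).1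
              (Subgroup.mem_subgroupOf.2 hu)
            have h6 : ((n : G)⁻¹ * u * ((n : G)⁻¹)⁻¹) ∈ P := Subgroup.mem_subgroupOf.1 h5
            rw [inv_inv] at h6
            have h7 := h2 _ h6 (K.mul_mem (K.mul_mem (K.inv_mem n.2) huK) n.2)
            calc u * ((n : G) * d * (n : G)⁻¹) = n * (((n : G)⁻¹ * u * n) * d) * (n : G)⁻¹ := by
                  group
              _ = (n : G) * d * (n : G)⁻¹ * u := by rw [h7]; group
          · rwa [show orderOf ((n : G) * d * (n : G)⁻¹) = orderOf (d : G) from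
              orderOf_injective (MulAut.conj (n : G)).toMonoidHom (MulAut.conj (n : G)).injective d]
        exact ⟨⟨_, h4⟩, rfl⟩ }
  have hFY : Fintype Y := Fintype.ofFinite _
  have hFK : Fintype K := Fintype.ofFinite _
  -- the invariant good character
  have hnK : ∀ s ∈ P, ∀ g ∈ K, s * g * s⁻¹ ∈ K := fun s _ g hg => hKn'.conj_mem g hg s
  have hnY : ∀ s ∈ P, ∀ g ∈ Y, s * g * s⁻¹ ∈ Y := fun s hs g hg =>
    ((Subgroup.mem_normalizer_iff.1 (hPY hs)) g).1 hg
  obtain ⟨β, hβg, hβP⟩ : ∃ β : IrrCharacter Y, Good p P₀ ι θ β ∧ P ≤ stab (β : Y → ℂ) := by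
    let _ := Cfsg.Agent.H595.Conj.conjAct K P hnK
    let _ := Cfsg.Agent.H595.Conj.conjAct Y P hnY
    obtain ⟨β, h1, h2⟩ := hset.exists_inv hM hYp hθ hdθ (S := P) h.pP (fun s d => rfl)
      (fun s u hu => by
        rw [Subgroup.mem_subgroupOf]
        show (s : G) * u * (s : G)⁻¹ ∈ P
        exact P.mul_mem (P.mul_mem s.2 (Subgroup.mem_subgroupOf.1 hu)) (P.inv_mem s.2))
      (fun s x => (isIrr_isClassFunction hχ) (x : G) (s : G))
    refine ⟨β, h1, fun s hs => (mem_stab_iff_inv (hPY hs)).2 ?_⟩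
    exact (Cfsg.Agent.H595.Conj.inv_iff Y P hnY (β : Y → ℂ)).2 h2 s hs
  have hβq : ¬ q ∣ charDegree (β : Y → ℂ) := by
    refine lemA h.ne hAY hYA hPA hPY h.pP h.qQ hAq hYp hAQ h.PQ ?_ h.cent β.2 hβP
    intro x hx hxP s hs
    refine h.comm x hx.2 ?_ s hs
    refine Subgroup.mem_normalizer_fintype fun u hu => ?_
    have h1 := hxP u hu
    have h2 : x * u * x⁻¹ = u := by rw [← h1, mul_inv_cancel_right]
    rw [h2]
    exact hu
  -- the twist
  obtain ⟨n, hn, hrel⟩ := hset.unique hM hYp hθ hβg (hset.good_lin l hlθ hβg)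
  have hβc := isIrr_isClassFunction β.2
  obtain ⟨x, hx, s, hs, hxs⟩ := (Cfsg.Agent.SignalizersComponents.CoprimeBasic.mem_sup_iff
    (by rw [hLtop]; exact le_top) _).1 (n.2 : (n : G) ∈ L ⊔ Q)
  have hsK : s ∈ K := (le_sup_right : Q ≤ K) hs
  have hxK : x ∈ K := (le_sup_left : L ≤ K) hx
  have hsN : (⟨s, hsK⟩ : K) ∈ Subgroup.normalizer (P₀ : Set K) := by
    have := hset.cen ⟨s, hQY hs⟩
    exact Subgroup.centralizer_le_normalizer _ this
  have hxN : (⟨x, hxK⟩ : K) ∈ Subgroup.normalizer (P₀ : Set K) := by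
    have h1 : (⟨x, hxK⟩ : K) = n * (⟨s, hsK⟩ : K)⁻¹ := Subtype.ext (by
      show x = (n : G) * s⁻¹
      rw [← hxs, mul_inv_cancel_right])
    rw [h1]
    exact mul_mem hn (inv_mem hsN)
  have hstep : ∀ d d' : Y, (d' : G) = x * d * x⁻¹ →
      (β : Y → ℂ) d' = (l (ι d) : ℂ) * (β : Y → ℂ) d := by
    intro d d' hdd
    let sY : Y := ⟨s, hQY hs⟩
    have h1 := hrel (sY⁻¹ * d * sY) d' (Subtype.ext (by
      show (d' : G) = (n : G) * (s⁻¹ * d * s) * (n : G)⁻¹
      rw [hdd, ← hxs]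
      group))
    have h3 : (β : Y → ℂ) (sY⁻¹ * d * sY) = (β : Y → ℂ) d := by
      have := hβc d sY⁻¹
      rwa [inv_inv] at this
    rw [linMul_apply, h3] at h1
    rw [← h1]
    congr 2
    rw [MonoidHom.comp_apply, map_mul, map_mul, map_mul, map_mul, map_inv, map_inv]
    rw [mul_comm (l (ι sY))⁻¹, inv_mul_cancel_right]
  have hiter : ∀ (j : ℕ) (d d' : Y), (d' : G) = x ^ j * d * (x ^ j)⁻¹ →
      (β : Y → ℂ) d' = (l (ι d) : ℂ) ^ j * (β : Y → ℂ) d := by
    intro j
    induction j with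
    | zero =>
      intro d d' hdd
      have : d' = d := Subtype.ext (by rw [hdd]; simp)
      rw [this, pow_zero, one_mul]
    | succ j ih =>
      intro d d' hdd
      obtain ⟨d₁, hd₁⟩ := hset.norm _ hxN d
      have hd₁' : (d₁ : G) = x * d * x⁻¹ := congrArg Subtype.val hd₁
      rw [ih d₁ d' (by rw [hdd, hd₁', pow_succ]; group), hstep d d₁ hd₁', hd₁, map_mul, map_mul,
        map_inv, mul_comm (l ⟨x, hxK⟩), mul_inv_cancel_right, pow_succ]
      ring
  let m := orderOf x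
  have hmq : m.Coprime q := by
    rw [Nat.coprime_comm, Nat.Prime.coprime_iff_not_dvd hq.out]
    intro hdv
    have h1 : orderOf x ∣ Nat.card L := by
      rw [← Subgroup.orderOf_mk x hx]
      exact orderOf_dvd_natCard _
    exact h.Lq (hdv.trans h1)
  have hm1 : (l.comp ι) ^ m = 1 := by
    refine eq_one_of_mul_eq (p := q) (k := 1) hq.out β.2 hβq (fun y => ?_) (funext fun d => ?_)
    · rw [MonoidHom.pow_apply, MonoidHom.comp_apply, ← pow_mul, mul_comm, pow_mul, pow_one, hlq,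
        one_pow]
    · have h1 := hiter m d d (by
        show (d : G) = x ^ orderOf x * d * (x ^ orderOf x)⁻¹
        rw [pow_orderOf_eq_one]
        simp)
      rw [MonoidHom.pow_apply, MonoidHom.comp_apply, Units.val_pow_eq_pow_val]
      exact h1.symm
  have hlY : ∀ d : Y, l (ι d) = 1 := by
    intro d
    have h1 : l (ι d) ^ m = 1 := by
      have := DFunLike.congr_fun hm1 d
      rwa [MonoidHom.pow_apply, MonoidHom.comp_apply] at this
    have h2 := hlq (ι d)
    have h3 : orderOf (l (ι d)) ∣ Nat.gcd m q :=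
      Nat.dvd_gcd (orderOf_dvd_of_pow_eq_one h1) (orderOf_dvd_of_pow_eq_one h2)
    rw [hmq.gcd_eq_one, Nat.dvd_one, orderOf_eq_one_iff] at h3
    exact h3
  apply hl1
  ext z
  obtain ⟨x', hx', s', hs', hxs'⟩ := (Cfsg.Agent.SignalizersComponents.CoprimeBasic.mem_sup_iff
    (by rw [hLtop]; exact le_top) _).1 (z.2 : (z : G) ∈ L ⊔ Q)
  have hz : z = (⟨x', (le_sup_left : L ≤ K) hx'⟩ : K) * ι ⟨s', hQY hs'⟩ := Subtype.ext hxs'.symm
  rw [hz, map_mul, hlY, mul_one, hlL _ (Subgroup.mem_subgroupOf.2 hx')]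
  rfl

end

end Cfsg.Agent.H723.QD
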