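/-
# Group theory of a character triple: transfer of Sylow subgroups
-/
import Mathlib
import Cfsg.Agent.H676.RM.Grp
import Cfsg.Agent.SignalizersComponents.CoprimeBasic

set_option linter.unusedSectionVars false
set_option linter.unusedVariables false

namespace Cfsg.Agent.H723.QD

open Cfsg.Agent.H672.RM
open scoped commutatorElement

section

variable {Δ Γ W : Type*} [Group Δ] [Group Γ] [Group W] [Finite Δ] [Finite Γ] [Finite W]

/-- `Δ → Γ` with central kernel, `Δ → W`, the kernel of the second map onto `D`. -/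
structure Tr (π : Δ →* Γ) (m : Δ →* W) (D : Subgroup Γ) : Prop where
  sπ : Function.Surjective π
  sm : Function.Surjective m
  cen : π.ker ≤ Subgroup.center Δ
  kerD : m.ker.map π = D

/-- the image of a subgroup of `Γ` in `W` -/
def up (π : Δ →* Γ) (m : Δ →* W) (X : Subgroup Γ) : Subgroup W := (X.comap π).map m

theorem mem_up {π : Δ →* Γ} {m : Δ →* W} {X : Subgroup Γ} {w : W} :
    w ∈ up π m X ↔ ∃ x, π x ∈ X ∧ m x = w := Iff.rfl

theorem up_mono {π : Δ →* Γ} {m : Δ →* W} {X Y : Subgroup Γ} (h : X ≤ Y) :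
    up π m X ≤ up π m Y := by
  rintro _ ⟨x, hx, rfl⟩
  exact ⟨x, h hx, rfl⟩

variable {π : Δ →* Γ} {m : Δ →* W} {D : Subgroup Γ}

theorem Tr.up_index (h : Tr π m D) (X : Subgroup Γ) : (up π m X).index ∣ X.index := by
  have h1 := Subgroup.index_map_dvd (X.comap π) h.sm
  rwa [Subgroup.index_comap_of_surjective X h.sπ] at h1

theorem Tr.ker_mem (h : Tr π m D) {x : Δ} (hx : m x = 1) : π x ∈ D := by
  rw [← h.kerD]
  exact ⟨x, hx, rfl⟩

theorem Tr.exists_ker (h : Tr π m D) {d : Γ} (hd : d ∈ D) : ∃ x, m x = 1 ∧ π x = d := by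
  rw [← h.kerD] at hd
  obtain ⟨x, hx, rfl⟩ := hd
  exact ⟨x, hx, rfl⟩

theorem Tr.le_center (h : Tr π m D) : π.ker.map m ≤ Subgroup.center W := by
  rintro _ ⟨z, hz, rfl⟩
  rw [Subgroup.mem_center_iff]
  intro w
  obtain ⟨x, rfl⟩ := h.sm w
  rw [← map_mul, ← map_mul, Subgroup.mem_center_iff.1 (h.cen hz) x]

variable {r : ℕ} [hr : Fact r.Prime]

theorem Tr.exists_syl (h : Tr π m D) (X : Subgroup Γ) (hX : ¬ r ∣ X.index) :
    ∃ S ≤ up π m X, IsPGroup r S ∧ ¬ r ∣ S.index := by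
  obtain ⟨S, hS⟩ := exists_sylIn (p := r) (up π m X)
  refine ⟨S, hS.le, hS.pg, ?_⟩
  rw [← Subgroup.relIndex_mul_index hS.le, hr.out.dvd_mul]
  rintro (h1 | h1)
  · exact hS.ndvd h1
  · exact hX (h1.trans (h.up_index X))

theorem Tr.down_eq [hD : D.Normal] (h : Tr π m D) {X : Subgroup Γ} (hX : IsPGroup r X)
    {S : Subgroup W} (hSX : S ≤ up π m X) (hS : ¬ r ∣ S.index) : (S.comap m).map π = X ⊔ D := by
  have hle : (S.comap m).map π ≤ X ⊔ D := by
    rintro _ ⟨x, hx, rfl⟩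
    obtain ⟨x', hx', hxx⟩ := mem_up.1 (hSX hx)
    have h1 : m (x'⁻¹ * x) = 1 := by
      rw [map_mul, map_inv, hxx, inv_mul_cancel]
    have h2 : π x = π x' * π (x'⁻¹ * x) := by rw [← map_mul, mul_inv_cancel_left]
    rw [h2]
    exact Subgroup.mul_mem_sup hx' (h.ker_mem h1)
  have hDle : D ≤ (S.comap m).map π := by
    intro d hd
    obtain ⟨x, hx, rfl⟩ := h.exists_ker hd
    refine ⟨x, ?_, rfl⟩
    show m x ∈ S
    rw [hx]
    exact one_mem S
  refine le_antisymm hle ?_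
  rw [← Subgroup.relIndex_eq_one]
  have h1 : ¬ r ∣ ((S.comap m).map π).relIndex (X ⊔ D) := by
    intro hd
    apply hS
    have h2 := Subgroup.index_map_dvd (S.comap m) h.sπ
    rw [Subgroup.index_comap_of_surjective S h.sm] at h2
    exact (hd.trans (Subgroup.relIndex_dvd_index_of_le hle)).trans h2
  have h2 : ((S.comap m).map π).relIndex (X ⊔ D) ∣ Nat.card X := by
    refine (Subgroup.relIndex_dvd_of_le_left _ hDle).trans ?_
    rw [Subgroup.relIndex_sup_right]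
    exact Subgroup.relIndex_dvd_card _ _
  obtain ⟨k, hk⟩ := IsPGroup.iff_card.1 hX
  rw [hk] at h2
  obtain ⟨j, -, hj⟩ := (Nat.dvd_prime_pow hr.out).1 h2
  rcases j with _ | j
  · rw [hj, pow_zero]
  · exfalso
    apply h1
    rw [hj]
    exact dvd_pow_self r (Nat.succ_ne_zero j)

theorem Tr.up_sup_le [hD : D.Normal] (h : Tr π m D) {X : Subgroup Γ} (hX : IsPGroup r X)
    {S : Subgroup W} (hSX : S ≤ up π m X) (hS : ¬ r ∣ S.index) :
    up π m (X ⊔ D) ≤ S ⊔ π.ker.map m := by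
  rintro _ ⟨x, hx, rfl⟩
  have hx' : π x ∈ X ⊔ D := hx
  rw [← h.down_eq hX hSX hS] at hx'
  obtain ⟨y, hy, hyx⟩ := hx'
  have h1 : m x = m y * m (y⁻¹ * x) := by rw [← map_mul, mul_inv_cancel_left]
  rw [h1]
  refine Subgroup.mul_mem_sup hy ⟨y⁻¹ * x, ?_, rfl⟩
  show π (y⁻¹ * x) = 1
  rw [map_mul, map_inv, hyx, inv_mul_cancel]

theorem Tr.norm_down [hD : D.Normal] (h : Tr π m D) {X : Subgroup Γ} (hX : IsPGroup r X)
    {S : Subgroup W} (hSX : S ≤ up π m X) (hS : ¬ r ∣ S.index) {x : Δ}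
    (hx : m x ∈ Subgroup.normalizer (S : Set W)) :
    π x ∈ Subgroup.normalizer ((X ⊔ D : Subgroup Γ) : Set Γ) := by
  rw [← h.down_eq hX hSX hS]
  refine Subgroup.mem_normalizer_fintype ?_
  rintro _ ⟨y, hy, rfl⟩
  refine ⟨x * y * x⁻¹, ?_, by rw [map_mul, map_mul, map_inv]⟩
  show m (x * y * x⁻¹) ∈ S
  rw [map_mul, map_mul, map_inv]
  exact ((Subgroup.mem_normalizer_iff.1 hx) (m y)).1 hy

theorem Tr.norm_up [hD : D.Normal] (h : Tr π m D) {X : Subgroup Γ} (hX : IsPGroup r X)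
    {S : Subgroup W} (hSr : IsPGroup r S) (hSX : S ≤ up π m X) (hS : ¬ r ∣ S.index) {x : Δ}
    (hx : π x ∈ Subgroup.normalizer ((X ⊔ D : Subgroup Γ) : Set Γ)) :
    m x ∈ Subgroup.normalizer (S : Set W) := by
  refine Subgroup.mem_normalizer_fintype fun s hs => ?_
  obtain ⟨y, hy, rfl⟩ := mem_up.1 (hSX hs)
  have h1 : m x * m y * (m x)⁻¹ ∈ up π m (X ⊔ D) := by
    refine mem_up.2 ⟨x * y * x⁻¹, ?_, by rw [map_mul, map_mul, map_inv]⟩
    rw [map_mul, map_mul, map_inv]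
    exact ((Subgroup.mem_normalizer_iff.1 hx) (π y)).1 ((le_sup_left : X ≤ X ⊔ D) hy)
  have h2 := h.up_sup_le hX hSX hS h1
  have hcen := h.le_center
  obtain ⟨s', hs', z, hz, hsz⟩ := (Cfsg.Agent.SignalizersComponents.CoprimeBasic.mem_sup_iff
    (hcen.trans (Subgroup.center_le_normalizer _)) _).1 h2
  have hzc := Subgroup.mem_center_iff.1 (hcen hz)
  obtain ⟨a, ha⟩ := hSr ⟨_, hs⟩
  obtain ⟨b, hb⟩ := hSr ⟨_, hs'⟩
  have ha' : (m y) ^ r ^ a = 1 := by simpa using congrArg Subtype.val ha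
  have hb' : s' ^ r ^ b = 1 := by simpa using congrArg Subtype.val hb
  have hz1 : z = s'⁻¹ * (m x * m y * (m x)⁻¹) := by rw [← hsz, inv_mul_cancel_left]
  have hzp : z ^ r ^ (a + b) = 1 := by
    have h3 : (s' * z) ^ r ^ (a + b) = 1 := by
      rw [hsz, conj_pow, pow_add, pow_mul, ha', one_pow, mul_one, mul_inv_cancel]
    have h4 : Commute s' z := hzc s'
    rw [h4.mul_pow] at h3
    rwa [pow_add, mul_comm (r ^ a), pow_mul, hb', one_pow, one_mul, ← mul_comm (r ^ a),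
      ← pow_add] at h3
  have hzS : z ∈ S :=
    Cfsg.Agent.H676.RM.Grp.central_mem_sylow (IsPGroup.toSylow hSr hS) (hcen hz) hzp
  rw [← hsz]
  exact S.mul_mem hs' hzS

/-- Frattini argument. -/
theorem normalizer_sup_le [hD : D.Normal] {X : Subgroup Γ} (hX : IsPGroup r X)
    (hXs : ¬ r ∣ X.index) : Subgroup.normalizer ((X ⊔ D : Subgroup Γ) : Set Γ) ≤
      Subgroup.normalizer (X : Set Γ) ⊔ D := by
  intro g hg
  have hgU := map_conj_eq_of_mem hg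
  have hXU : SylIn r X (X ⊔ D) := ⟨le_sup_left, hX, fun hd =>
    hXs (hd.trans (Subgroup.relIndex_dvd_index_of_le le_sup_left))⟩
  have hXg : SylIn r (X.map (MulAut.conj g).toMonoidHom) (X ⊔ D) := by
    refine ⟨?_, hX.map _, ?_⟩
    · rw [← hgU]
      exact Subgroup.map_mono le_sup_left
    · conv_rhs => rw [← hgU]
      rw [Subgroup.relIndex_map_map_of_injective _ _ (MulAut.conj g).injective]
      exact hXU.ndvd
  obtain ⟨u, hu, hug⟩ := hXg.conj hXU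
  have h1 : u * g ∈ Subgroup.normalizer (X : Set Γ) := by
    apply mem_normalizer_of_map_conj
    conv_rhs => rw [← hug]
    rw [Subgroup.map_map]
    congr 1
    ext x
    simp
  obtain ⟨a, ha, d, hd, had⟩ := (Cfsg.Agent.SignalizersComponents.CoprimeBasic.mem_sup_iff
    (X := D) (Y := X) (by rw [Subgroup.normalizer_eq_top]; exact le_top) u⁻¹).1
    (by rw [sup_comm]; exact inv_mem hu)
  have h2 : g = a * (d * (u * g)) := by
    rw [← mul_assoc, had, inv_mul_cancel_left]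
  rw [h2, sup_comm]
  exact Subgroup.mul_mem_sup ha (mul_mem (Subgroup.le_normalizer hd) h1)

/-- Transfer of `N(P) ≤ N(Q)`. -/
theorem Tr.norm_le [hD : D.Normal] (h : Tr π m D) {p q : ℕ} [hp : Fact p.Prime] [hq : Fact q.Prime]
    {P Q : Subgroup Γ} (hP : IsPGroup p P) (hPs : ¬ p ∣ P.index) (hQ : IsPGroup q Q)
    (hN : Subgroup.normalizer (P : Set Γ) ≤ Subgroup.normalizer (Q : Set Γ))
    {P₁ Q₁ : Subgroup W} (hP₁ : P₁ ≤ up π m P) (hP₁s : ¬ p ∣ P₁.index) (hQ₁q : IsPGroup q Q₁)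
    (hQ₁ : Q₁ ≤ up π m Q) (hQ₁s : ¬ q ∣ Q₁.index) :
    Subgroup.normalizer (P₁ : Set W) ≤ Subgroup.normalizer (Q₁ : Set W) := by
  intro n hn
  obtain ⟨x, rfl⟩ := h.sm n
  refine h.norm_up hQ hQ₁q hQ₁ hQ₁s ?_
  have h1 := normalizer_sup_le hP hPs (h.norm_down hP hP₁ hP₁s hn)
  have h2 : Subgroup.normalizer (P : Set Γ) ⊔ D ≤
      Subgroup.normalizer ((Q ⊔ D : Subgroup Γ) : Set Γ) := by
    refine sup_le (hN.trans ?_) (le_sup_right.trans Subgroup.le_normalizer)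
    refine le_trans (le_inf le_rfl ?_) (Subgroup.normalizer_inf_normalizer_le_normalizer_sup Q D)
    rw [Subgroup.normalizer_eq_top D]
    exact le_top
  exact h2 h1

/-- Transfer of `C_{Q'}(P) = 1`, modulo the central subgroup. -/
theorem Tr.cent_le [hD : D.Normal] (h : Tr π m D) {p q : ℕ} [hp : Fact p.Prime] [hq : Fact q.Prime]
    (hpq : p ≠ q) {P Q : Subgroup Γ} (hP : IsPGroup p P) (hQ : IsPGroup q Q)
    (hPQ : P ≤ Subgroup.normalizer (Q : Set Γ))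
    (hC : ⁅Q, Q⁆ ⊓ Subgroup.centralizer (P : Set Γ) = ⊥)
    {P₁ Q₁ : Subgroup W} (hP₁ : P₁ ≤ up π m P) (hP₁s : ¬ p ∣ P₁.index)
    (hQ₁ : Q₁ ≤ up π m Q) :
    ⁅Q₁, Q₁⁆ ⊓ Subgroup.centralizer (P₁ : Set W) ≤ π.ker.map m := by
  classical
  rintro w ⟨hw, hwP⟩
  have h1 : ⁅Q₁, Q₁⁆ ≤ up π m ⁅Q, Q⁆ := by
    rw [Subgroup.commutator_le]
    intro a ha b hb
    obtain ⟨x, hx, rfl⟩ := mem_up.1 (hQ₁ ha)
    obtain ⟨y, hy, rfl⟩ := mem_up.1 (hQ₁ hb)
    refine mem_up.2 ⟨⁅x, y⁆, ?_, map_commutatorElement m x y⟩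
    rw [map_commutatorElement]
    exact Subgroup.commutator_mem_commutator hx hy
  obtain ⟨x, hx, rfl⟩ := mem_up.1 (h1 hw)
  -- `π x ∈ Q'` commutes with `P` modulo `D`
  have hcom : ∀ u ∈ P, u * π x * u⁻¹ * (π x)⁻¹ ∈ D := by
    intro u hu
    have h2 : u ∈ (P₁.comap m).map π := by
      rw [h.down_eq hP hP₁ hP₁s]
      exact (le_sup_left : P ≤ P ⊔ D) hu
    obtain ⟨v, hv, rfl⟩ := h2
    have h3 : m (v * x * v⁻¹ * x⁻¹) = 1 := by
      have h4 := Subgroup.mem_centralizer_iff.1 hwP (m v) hv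
      rw [map_mul, map_mul, map_mul, map_inv, map_inv, h4]
      group
    have h5 := h.ker_mem h3
    rwa [map_mul, map_mul, map_mul, map_inv, map_inv] at h5
  have hPQQ : ∀ u ∈ P, ∀ y ∈ ⁅Q, Q⁆, u * y * u⁻¹ ∈ ⁅Q, Q⁆ := by
    intro u hu y hy
    have h1 : Q.map (MulAut.conj u).toMonoidHom = Q := map_conj_eq_of_mem (hPQ hu)
    have h2 : ⁅Q, Q⁆.map (MulAut.conj u).toMonoidHom = ⁅Q, Q⁆ := by
      rw [Subgroup.map_commutator, h1]
    rw [← h2]
    exact ⟨y, hy, rfl⟩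
  -- fixed point in the coset
  let E : Subgroup Γ := ⁅Q, Q⁆ ⊓ D
  let X := {y : Γ // y ∈ ⁅Q, Q⁆ ∧ (π x)⁻¹ * y ∈ D}
  let _ : MulAction P X :=
    { smul := fun u y => ⟨(u : Γ) * y * (u : Γ)⁻¹, hPQQ u u.2 y y.2.1, by
        have h3 := hcom u u.2
        have h4 := y.2.2
        have h5 : (u : Γ) * ((π x)⁻¹ * y) * (u : Γ)⁻¹ ∈ D := hD.conj_mem _ h4 u
        have h6 : (π x)⁻¹ * ((u : Γ) * y * (u : Γ)⁻¹) =
            (π x)⁻¹ * ((u : Γ) * π x * (u : Γ)⁻¹ * (π x)⁻¹) * (π x) *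
              ((u : Γ) * ((π x)⁻¹ * y) * (u : Γ)⁻¹) := by
          group
        show (π x)⁻¹ * ((u : Γ) * y * (u : Γ)⁻¹) ∈ D
        rw [h6]
        have h7 := hD.conj_mem _ h3 (π x)⁻¹
        rw [inv_inv] at h7
        exact D.mul_mem h7 h5⟩
      one_smul := fun y => Subtype.ext (by
        show ((1 : P) : Γ) * y * ((1 : P) : Γ)⁻¹ = y
        simp)
      mul_smul := fun u v y => Subtype.ext (by
        show ((u * v : P) : Γ) * y * ((u * v : P) : Γ)⁻¹ = u * (v * y * (v : Γ)⁻¹) * (u : Γ)⁻¹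
        rw [Subgroup.coe_mul]
        group) }
  have hXcard : Nat.card X = Nat.card E := by
    refine Nat.card_congr ⟨fun y => ⟨(π x)⁻¹ * y, ⟨⁅Q, Q⁆.mul_mem (⁅Q, Q⁆.inv_mem hx) y.2.1, y.2.2⟩⟩,
      fun e => ⟨π x * e, ⁅Q, Q⁆.mul_mem hx e.2.1, by rw [inv_mul_cancel_left]; exact e.2.2⟩,
      fun y => Subtype.ext (by simp), fun e => Subtype.ext (by simp)⟩
  have hnd : ¬ p ∣ Nat.card X := by
    rw [hXcard]
    intro hd
    have h3 : Nat.card E ∣ Nat.card Q := Subgroup.card_dvd_of_le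
      (inf_le_left.trans (Subgroup.commutator_le_self Q))
    obtain ⟨k, hk⟩ := IsPGroup.iff_card.1 hQ
    rw [hk] at h3
    exact hpq ((Nat.prime_dvd_prime_iff_eq hp.out hq.out).1 (hp.out.dvd_of_dvd_pow (hd.trans h3)))
  obtain ⟨y, hy⟩ := hP.nonempty_fixed_point_of_prime_not_dvd_card X hnd
  have hy1 : (y : Γ) ∈ (⊥ : Subgroup Γ) := by
    rw [← hC]
    refine ⟨y.2.1, ?_⟩
    show (y : Γ) ∈ Subgroup.centralizer (P : Set Γ)
    rw [Subgroup.mem_centralizer_iff]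
    intro u hu
    have h3 : (u : Γ) * y * (u : Γ)⁻¹ = y := congrArg Subtype.val (hy ⟨u, hu⟩)
    rwa [mul_inv_eq_iff_eq_mul] at h3
  have hxD : π x ∈ D := by
    have h3 := y.2.2
    rw [Subgroup.mem_bot.1 hy1, mul_one] at h3
    exact (inv_mem_iff).1 h3
  obtain ⟨k, hk, hkx⟩ := h.exists_ker hxD
  refine ⟨x * k⁻¹, ?_, ?_⟩
  · show π (x * k⁻¹) = 1
    rw [map_mul, map_inv, hkx, mul_inv_cancel]
  · rw [map_mul, map_inv, hk, inv_one, mul_one]

end

end Cfsg.Agent.H723.QD
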