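/-
# The invariant case, via character triples
-/
import Mathlib
import Cfsg.Agent.H723.QD.Base
import Cfsg.Agent.H723.QD.TrG
import Cfsg.Agent.H672.RM.Triple
import Cfsg.Agent.CharDeep.TripleCover

set_option linter.unusedSectionVars false
set_option linter.unusedVariables false

namespace Cfsg.Agent.H723.QD

open Cfsg
open scoped ComplexConjugate commutatorElement
open Cfsg.Agent.Characters.Core Cfsg.Agent.Characters.Clifford Cfsg.Agent.H672 Cfsg.Agent.H672.RM
open Cfsg.Agent.H675.Nd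
open Cfsg.Agent.H595.Triple Cfsg.Agent.H595.Central

universe u

section cov

open Representation Module Cfsg.Agent.CharDeep.IrrEquiv Cfsg.Agent.CharDeep.ProjExt
  Cfsg.Agent.CharDeep.TripleCover Cfsg.Agent.CharDeep

/-- The cover of `H595.Triple.exists_cov`, with the kernel acting faithfully. -/
theorem exists_cov_f {Γ : Type u} [Group Γ] [Finite Γ] (N : Subgroup Γ) [hN : N.Normal]
    (θ : IrrCharacter N) (hinv : Cfsg.Agent.H595.Count.CInv N (θ : N → ℂ)) :
    ∃ (Δ : Type u) (_ : Group Δ) (_ : Finite Δ) (π : Δ →* Γ) (s : N →* Δ) (χR : Δ → ℂ),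
      Cov N (θ : N → ℂ) Δ π s χR ∧ ∀ x ∈ π.ker, χR x = χR 1 → x = 1 := by
  obtain ⟨k, ρ, hρ, hθ⟩ := θ.2
  have hinv' : ∀ (g : Γ) (n : N), ρ.character (MulAut.conjNormal g n) = ρ.character n := by
    intro g n
    rw [hθ, ← hinv g n]
    congr 1
  obtain ⟨Δ, hfin, hΔ, hsurj, hsec, hker⟩ := exists_finite_cover ρ hρ hinv'
  let s : N →* Δ := (sec ρ).codRestrict Δ hsec
  have hRs : ∀ n, coverRep Δ (s n) = ρ n := fun n => sec_snd ρ n
  refine ⟨Δ, inferInstance, hfin, proj Δ, s, (coverRep Δ).character, ⟨hsurj, hker,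
    fun n => rfl, ?_, ?_, ?_⟩, ?_⟩
  · constructor
    rintro _ ⟨n, rfl⟩ x
    exact ⟨MulAut.conjNormal x.1.1 n, Subtype.ext (conj_sec ρ x.1 (hΔ x.2) n).symm⟩
  · refine isIrrCharacter_of_rep _ ?_
    refine Cfsg.Agent.CharactersDeep.IrrEquiv.isIrreducible_of_comp (coverRep Δ) s ?_
    have : (MonoidHom.comp (coverRep Δ) s : Representation ℂ N (Fin k → ℂ)) = ρ :=
      MonoidHom.ext fun n => hRs n
    rw [this]
    exact hρ
  · intro n
    rw [← hθ]
    show LinearMap.trace ℂ _ (coverRep Δ (s n)) = LinearMap.trace ℂ _ (ρ n)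
    rw [hRs]
  · intro x hx h1
    have hx1 : x.1.1 = 1 := hx
    rw [Representation.char_one, Cfsg.Agent.Characters.Values.character_eq_finrank_iff] at h1
    apply Subtype.ext
    refine Prod.ext hx1 (Units.ext ?_)
    exact h1

end cov

section

variable {Γ : Type u} [Group Γ] [Finite Γ] {p q : ℕ} [hp : Fact p.Prime] [hq : Fact q.Prime]

theorem trip (hpq : p ≠ q) (D L P Q : Subgroup Γ) [hD : D.Normal] [hL : L.Normal] (hDL : D ≤ L)
    (hLq : ¬ q ∣ D.relIndex L) (hP : IsPGroup p P) (hPs : ¬ p ∣ P.index) (hQ : IsPGroup q Q)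
    (hQs : ¬ q ∣ Q.index)
    (hN : Subgroup.normalizer (P : Set Γ) ≤ Subgroup.normalizer (Q : Set Γ))
    (hC : ⁅Q, Q⁆ ⊓ Subgroup.centralizer (P : Set Γ) = ⊥) (htop : L ⊔ Q ⊔ P = ⊤)
    {δ : D → ℂ} (hδ : IsIrrCharacter D δ) (hinv : inertia D δ = ⊤) (hδq : ¬ q ∣ charDegree δ)
    {ζ : (Q ⊔ D : Subgroup Γ) → ℂ} (hζ : IsIrrCharacter _ ζ)
    (hζδ : ∀ d : D, ζ (Subgroup.inclusion le_sup_right d) = δ d)
    {χ : Γ → ℂ} (hχ : IsIrrCharacter Γ χ) (hχo : Over D.subtype χ δ) (hχp : ¬ p ∣ charDegree χ) :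
    ¬ q ∣ charDegree χ := by
  classical
  have hinv' : Cfsg.Agent.H595.Count.CInv D δ := by
    intro g n
    have h1 : g ∈ inertia D δ := by rw [hinv]; trivial
    exact mem_inertia_iff.1 h1 n
  obtain ⟨Δ, hΔ, hΔf, π, s, χR, h, hfaith⟩ := exists_cov_f D ⟨δ, hδ⟩ hinv'
  have hLn := h.normal
  have hsec : ∀ n, π (s n) = n := h.section_
  let W := Δ ⧸ s.range
  let m : Δ →* W := QuotientGroup.mk' s.range
  have hm : Function.Surjective m := QuotientGroup.mk'_surjective _
  have hkm : m.ker = s.range := QuotientGroup.ker_mk' _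
  obtain ⟨c, hc, -⟩ := Cfsg.Agent.CharactersDeep.Extraspecial.exists_central_hom h.irr
  let c' : π.ker →* ℂˣ := c.comp (Subgroup.inclusion h.ker_le)
  have hc' : ∀ (x : Δ) (z : π.ker), χR (x * z) = χR x * c' z := fun x z =>
    hc x (Subgroup.inclusion h.ker_le z)
  have hTS : TSet π m s χR δ c' := by
    refine ⟨h.surj, hm, ?_, hkm.symm, h.ker_le, h.irr, hδ, h.ext, hc'⟩
    intro a b hab
    have h2 := congrArg π hab
    rw [hsec, hsec] at h2
    exact Subtype.ext h2
  have hTr : Tr π m D := by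
    refine ⟨h.surj, hm, h.ker_le, ?_⟩
    rw [hkm]
    ext d
    constructor
    · rintro ⟨_, ⟨n, rfl⟩, rfl⟩
      rw [hsec]
      exact n.2
    · intro hd
      exact ⟨s ⟨d, hd⟩, ⟨_, rfl⟩, hsec _⟩
  -- the character of `W`
  have hcomp : π.comp s = D.subtype := MonoidHom.ext fun n => hsec n
  obtain ⟨β, hβ, -, hβχ⟩ := hTS.exists_up hχ (by rw [hcomp]; exact hχo)
  have hdeg : charDegree χ = charDegree β * charDegree δ := by
    have h1 := hβχ 1
    have h2 := h.ext 1
    rw [map_one, map_one] at h1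
    rw [map_one] at h2
    change χR 1 = δ 1 at h2
    apply charDegree_of_eq
    rw [h1, h2, ← coe_charDegree hβ, ← coe_charDegree hδ, Nat.cast_mul]
  have hβp : ¬ p ∣ charDegree β := fun hd => hχp (by rw [hdeg]; exact hd.mul_right _)
  -- Sylow subgroups of `W`
  obtain ⟨P₁, hP₁, hP₁p, hP₁s⟩ := hTr.exists_syl P hPs
  obtain ⟨Q₁, hQ₁, hQ₁q, hQ₁s⟩ := hTr.exists_syl Q hQs
  have hnorm := hTr.norm_le hP hPs hQ hN hP₁ hP₁s hQ₁q hQ₁ hQ₁s
  have hPQ₁ : P₁ ≤ Subgroup.normalizer (Q₁ : Set W) := Subgroup.le_normalizer.trans hnorm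
  have hPQ : P ≤ Subgroup.normalizer (Q : Set Γ) := Subgroup.le_normalizer.trans hN
  let Z : Subgroup W := π.ker.map m
  have hZc : Z ≤ Subgroup.center W := hTr.le_center
  let LW : Subgroup W := up π m L
  have hLWn : LW.Normal := by
    have h1 : (L.comap π).Normal := inferInstance
    exact h1.map m hm
  have hZL : Z ≤ LW := by
    rintro _ ⟨z, hz, rfl⟩
    refine ⟨z, ?_, rfl⟩
    show π z ∈ L
    rw [MonoidHom.mem_ker.1 hz]
    exact one_mem L
  have hcomapZ : Z.comap m = D.comap π := by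
    rw [Subgroup.comap_map_eq, hkm]
    apply le_antisymm
    · refine sup_le (fun x hx => ?_) ?_
      · show π x ∈ D
        rw [MonoidHom.mem_ker.1 hx]
        exact one_mem D
      · rintro _ ⟨n, rfl⟩
        show π (s n) ∈ D
        rw [hsec]
        exact n.2
    · intro x hx
      obtain ⟨n, z, hz, rfl⟩ := h.comap_eq x hx
      exact mul_mem (Subgroup.mem_sup_right ⟨n, rfl⟩) (Subgroup.mem_sup_left hz)
  have hcomapL : LW.comap m = L.comap π := by
    show ((L.comap π).map m).comap m = _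
    rw [Subgroup.comap_map_eq, hkm]
    refine sup_eq_left.2 ?_
    rintro _ ⟨n, rfl⟩
    show π (s n) ∈ L
    rw [hsec]
    exact hDL n.2
  have hZLq : ¬ q ∣ Z.relIndex LW := by
    have h1 : (Z.comap m).relIndex (LW.comap m) = Z.relIndex LW := by
      rw [Subgroup.relIndex_comap, Subgroup.map_comap_eq_self_of_surjective hm]
    have h2 : (D.comap π).relIndex (L.comap π) = D.relIndex L := by
      rw [Subgroup.relIndex_comap, Subgroup.map_comap_eq_self_of_surjective h.surj]
    rw [← h1, hcomapZ, hcomapL, h2]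
    exact hLq
  obtain ⟨L₁, hL₁n, hL₁, hL₁q, hL₁s⟩ := Cfsg.Agent.H676.RM.Grp.exists_hall hZc hZL hZLq
    (IsPGroup.toSylow hQ₁q hQ₁s)
  have hL₁s' : LW ≤ L₁ ⊔ Q₁ := hL₁s
  have hinf : ∀ y ∈ L₁, y ∈ Q₁ → y = 1 := by
    intro y hy hyQ
    have h1 := ((hL₁ y).1 hy).2
    obtain ⟨k, hk⟩ := hQ₁q ⟨y, hyQ⟩
    have hk' : y ^ q ^ k = 1 := by simpa using congrArg Subtype.val hk
    obtain ⟨j, -, hj⟩ := (Nat.dvd_prime_pow hq.out).1 (orderOf_dvd_of_pow_eq_one hk')
    rcases j with _ | j
    · rwa [pow_zero, orderOf_eq_one_iff] at hj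
    · exfalso
      apply h1
      rw [hj]
      exact dvd_pow_self q (Nat.succ_ne_zero j)
  have hbase : BaseHyp p q L₁ P₁ Q₁ :=
    { ne := hpq
      Ln := hL₁n
      Lq := hL₁q
      pP := hP₁p
      sP := hP₁s
      qQ := hQ₁q
      PQ := hPQ₁
      top := by
        rw [eq_top_iff]
        intro w _
        obtain ⟨x, rfl⟩ := hm w
        have hx : π x ∈ L ⊔ (Q ⊔ P) := by
          rw [← sup_assoc, htop]
          trivial
        obtain ⟨l, hl, y, hy, hly⟩ := (Cfsg.Agent.SignalizersComponents.CoprimeBasic.mem_sup_iff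
          (by rw [Subgroup.normalizer_eq_top L]; exact le_top) _).1 hx
        obtain ⟨y₁, hy₁, y₂, hy₂, hyy⟩ :=
          (Cfsg.Agent.SignalizersComponents.CoprimeBasic.mem_sup_iff hPQ _).1 hy
        obtain ⟨l', rfl⟩ := h.surj l
        obtain ⟨a, rfl⟩ := h.surj y₁
        obtain ⟨b, rfl⟩ := h.surj y₂
        have h1 : m x = m l' * m a * m b * m ((l' * a * b)⁻¹ * x) := by
          rw [← map_mul, ← map_mul, ← map_mul, mul_inv_cancel_left]
        have h2 : m ((l' * a * b)⁻¹ * x) ∈ Z := ⟨_, by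
          show π ((l' * a * b)⁻¹ * x) = 1
          rw [map_mul, map_inv, map_mul, map_mul, ← hly, ← hyy, mul_assoc (π l'), inv_mul_cancel],
          rfl⟩
        have hZ' : Z ≤ L₁ ⊔ Q₁ ⊔ P₁ := (hZL.trans hL₁s').trans le_sup_left
        have hl1 : m l' ∈ L₁ ⊔ Q₁ ⊔ P₁ := (hL₁s'.trans le_sup_left) ⟨l', hl, rfl⟩
        have ha1 : m a ∈ L₁ ⊔ Q₁ ⊔ P₁ := by
          have h3 := hTr.up_sup_le hQ hQ₁ hQ₁s (up_mono le_sup_left ⟨a, hy₁, rfl⟩)
          exact (sup_le (le_sup_right.trans le_sup_left) hZ') h3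
        have hb1 : m b ∈ L₁ ⊔ Q₁ ⊔ P₁ := by
          have h3 := hTr.up_sup_le hP hP₁ hP₁s (up_mono le_sup_left ⟨b, hy₂, rfl⟩)
          exact (sup_le le_sup_right hZ') h3
        rw [h1]
        exact mul_mem (mul_mem (mul_mem hl1 ha1) hb1) (hZ' h2)
      comm := by
        intro x hx hxP y hy
        have hxQ := hnorm hxP
        have h1 : y * x * y⁻¹ * x⁻¹ ∈ L₁ :=
          L₁.mul_mem (hL₁n.conj_mem x hx y) (L₁.inv_mem hx)
        have h2 : y * x * y⁻¹ * x⁻¹ ∈ Q₁ := by
          have h3 := ((Subgroup.mem_normalizer_iff.1 hxQ) y⁻¹).1 (Q₁.inv_mem hy)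
          have h4 : y * x * y⁻¹ * x⁻¹ = y * (x * y⁻¹ * x⁻¹) := by group
          rw [h4]
          exact Q₁.mul_mem hy h3
        have h3 := hinf _ h1 h2
        rw [mul_inv_eq_one, mul_inv_eq_iff_eq_mul] at h3
        exact h3
      cent := by
        rw [eq_bot_iff]
        intro w hw
        have hwZ := hTr.cent_le hpq hP hQ hPQ hC hP₁ hP₁s hQ₁ hw
        obtain ⟨z, hz, rfl⟩ := hwZ
        -- the linear character
        let T : Subgroup Δ := (Q ⊔ D).comap π
        have hsT : s.range ≤ T := by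
          rintro _ ⟨n, rfl⟩
          show π (s n) ∈ Q ⊔ D
          rw [hsec]
          exact (le_sup_right : D ≤ Q ⊔ D) n.2
        have hTn : T ≤ Subgroup.normalizer (s.range : Set Δ) := by
          rw [Subgroup.normalizer_eq_top s.range]
          exact le_top
        let θ' : s.range → ℂ := fun y => χR y
        let ψ₁ : T → ℂ := fun y => ζ ⟨π y, y.2⟩
        let ψ₂ : T → ℂ := fun y => χR y
        have hψ₁s : ∀ k : s.range, ψ₁ (Subgroup.inclusion hsT k) = θ' k := by
          rintro ⟨_, n, rfl⟩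
          show ζ ⟨π (s n), _⟩ = χR (s n)
          rw [h.ext]
          show _ = δ n
          rw [← hζδ n]
          congr 1
          exact Subtype.ext (hsec n)
        have hθ' : IsIrrCharacter s.range θ' := by
          have h1 := hTS.irr_ker
          rw [hkm] at h1
          exact h1
        have hψ₁ : IsIrrCharacter T ψ₁ := by
          let f : T →* (Q ⊔ D : Subgroup Γ) :=
            (π.comp T.subtype).codRestrict (Q ⊔ D) (fun y => y.2)
          have hf : Function.Surjective f := by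
            rintro ⟨y, hy⟩
            obtain ⟨x, rfl⟩ := h.surj y
            exact ⟨⟨x, hy⟩, rfl⟩
          exact isIrr_comp f hf hζ
        have hψ₂ : IsIrrCharacter T ψ₂ := by
          refine isIrr_of_comp (Subgroup.inclusion hsT)
            (isCharacter_comp T.subtype (isIrr_isCharacter h.irr)) ?_
          exact hθ'
        have hψ₂o : Over (Subgroup.inclusion hsT) ψ₂ θ' := by
          have : Fintype s.range := Fintype.ofFinite _
          rw [over_iff]
          have h1 : ψ₂ ∘ Subgroup.inclusion hsT = θ' := rfl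
          rw [h1, classInner_irr_self hθ']
          exact one_ne_zero
        obtain ⟨ν, ⟨hν, hνs⟩, hνψ⟩ := (gal hsT hTn hθ' hψ₁ hψ₁s).surjOn ⟨hψ₂, hψ₂o⟩
        have hνψ' : ∀ y, ν y * ψ₁ y = ψ₂ y := fun y => congrFun hνψ y
        have h1 : ψ₁ 1 = ψ₂ 1 := by
          have h2 := hψ₁s 1
          rw [map_one] at h2
          exact h2
        have hψ1 : ψ₁ 1 ≠ 0 := isIrr_apply_one_ne_zero hψ₁
        have hν1 : ν 1 = 1 := by
          have h2 := hνψ' 1
          rw [← h1] at h2
          exact mul_right_cancel₀ hψ1 (h2.trans (one_mul _).symm)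
        obtain ⟨f, hf⟩ := Cfsg.Agent.Characters.Linear.exists_hom_of_isIrrCharacter hν hν1
        -- `z` is in the commutator subgroup of `T` modulo `s.range`
        have h2 : ⁅Q₁, Q₁⁆ ≤ (⁅T, T⁆ : Subgroup Δ).map m := by
          rw [Subgroup.map_commutator]
          have h3 : Q₁ ≤ T.map m := hQ₁.trans (up_mono le_sup_left)
          exact Subgroup.commutator_mono h3 h3
        obtain ⟨t, ht, htz⟩ := h2 hw.1
        have h3 : t⁻¹ * z ∈ s.range := by
          rw [← hkm]
          show m (t⁻¹ * z) = 1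
          rw [map_mul, map_inv, htz, inv_mul_cancel]
        have htT : t ∈ T := Subgroup.commutator_le_self T ht
        have hft : f ⟨t, htT⟩ = 1 := hom_commutator f ht htT
        have hzT : z ∈ T := by
          show π z ∈ Q ⊔ D
          rw [MonoidHom.mem_ker.1 hz]
          exact one_mem _
        have hfz : f ⟨z, hzT⟩ = 1 := by
          have h4 : (⟨z, hzT⟩ : T) = ⟨t, htT⟩ * Subgroup.inclusion hsT ⟨t⁻¹ * z, h3⟩ :=
            Subtype.ext (by
              show z = t * (t⁻¹ * z)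
              rw [mul_inv_cancel_left])
          have h5 : f (Subgroup.inclusion hsT ⟨t⁻¹ * z, h3⟩) = 1 := by
            have h6 := hνs ⟨t⁻¹ * z, h3⟩
            rw [hν1, hf] at h6
            exact Units.ext h6
          rw [h4, map_mul, hft, h5, one_mul]
        have hz1 : z = 1 := by
          refine hfaith z hz ?_
          have h4 := hνψ' ⟨z, hzT⟩
          rw [hf] at h4
          simp only [hfz, Units.val_one, one_mul] at h4
          have h5 : ψ₁ ⟨z, hzT⟩ = ψ₁ 1 := by
            show ζ ⟨π z, _⟩ = ζ ⟨π (1 : Δ), _⟩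
            congr 1
            exact Subtype.ext ((MonoidHom.mem_ker.1 hz).trans (map_one π).symm)
          rw [h5, h1] at h4
          exact h4.symm
        rw [hz1, map_one]
        exact one_mem _ }
  have hβq := hbase.main hβ hβp
  rw [hdeg, hq.out.dvd_mul]
  rintro (h1 | h1)
  · exact hβq h1
  · exact hδq h1

end

end Cfsg.Agent.H723.QD
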